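import Cfsg.Agent.HNRec.Amalgam.Words

/-! Generated: kernel checks of one word, a row per theorem (the kernel caches terms by the low bits of
literals, so large single checks are quadratic). -/

set_option Elab.async false
set_option maxRecDepth 100000

namespace Cfsg.Agent.HNRec.Amalgam

open Cfsg.Agent.HNSub

/-- The word, written out. -/
def lit0 : List Nat := [3, 3, 3, 2, 3, 0, 2, 3, 3, 3, 2, 3, 0, 2]

theorem chk0_word : chkW 0 = lit0 := by decide +kernel

theorem chk0_r0 : rowB lit0 0 = true := by decide +kernel

theorem chk0_r1 : rowB lit0 1 = true := by decide +kernel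

theorem chk0_r2 : rowB lit0 2 = true := by decide +kernel

theorem chk0_r3 : rowB lit0 3 = true := by decide +kernel

theorem chk0_r4 : rowB lit0 4 = true := by decide +kernel

theorem chk0_r5 : rowB lit0 5 = true := by decide +kernel

theorem chk0_r6 : rowB lit0 6 = true := by decide +kernel

theorem chk0_r7 : rowB lit0 7 = true := by decide +kernel

theorem chk0_r8 : rowB lit0 8 = true := by decide +kernel

theorem chk0_r9 : rowB lit0 9 = true := by decide +kernel

theorem chk0_r10 : rowB lit0 10 = true := by decide +kernel

theorem chk0_r11 : rowB lit0 11 = true := by decide +kernel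

theorem chk0_r12 : rowB lit0 12 = true := by decide +kernel

theorem chk0_r13 : rowB lit0 13 = true := by decide +kernel

theorem chk0_r14 : rowB lit0 14 = true := by decide +kernel

theorem chk0_r15 : rowB lit0 15 = true := by decide +kernel

theorem chk0_r16 : rowB lit0 16 = true := by decide +kernel

theorem chk0_r17 : rowB lit0 17 = true := by decide +kernel

theorem chk0_r18 : rowB lit0 18 = true := by decide +kernel

theorem chk0_r19 : rowB lit0 19 = true := by decide +kernel

theorem chk0_r20 : rowB lit0 20 = true := by decide +kernel

theorem chk0_r21 : rowB lit0 21 = true := by decide +kernel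

theorem chk0_r22 : rowB lit0 22 = true := by decide +kernel

theorem chk0_r23 : rowB lit0 23 = true := by decide +kernel

theorem chk0_r24 : rowB lit0 24 = true := by decide +kernel

theorem chk0_r25 : rowB lit0 25 = true := by decide +kernel

theorem chk0_r26 : rowB lit0 26 = true := by decide +kernel

theorem chk0_r27 : rowB lit0 27 = true := by decide +kernel

theorem chk0_r28 : rowB lit0 28 = true := by decide +kernel

theorem chk0_r29 : rowB lit0 29 = true := by decide +kernel

theorem chk0_r30 : rowB lit0 30 = true := by decide +kernel

theorem chk0_r31 : rowB lit0 31 = true := by decide +kernel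

theorem chk0_r32 : rowB lit0 32 = true := by decide +kernel

theorem chk0_r33 : rowB lit0 33 = true := by decide +kernel

theorem chk0_r34 : rowB lit0 34 = true := by decide +kernel

theorem chk0_r35 : rowB lit0 35 = true := by decide +kernel

theorem chk0_r36 : rowB lit0 36 = true := by decide +kernel

theorem chk0_r37 : rowB lit0 37 = true := by decide +kernel

theorem chk0_r38 : rowB lit0 38 = true := by decide +kernel

theorem chk0_r39 : rowB lit0 39 = true := by decide +kernel

theorem chk0_r40 : rowB lit0 40 = true := by decide +kernel

theorem chk0_r41 : rowB lit0 41 = true := by decide +kernel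

theorem chk0_r42 : rowB lit0 42 = true := by decide +kernel

theorem chk0_r43 : rowB lit0 43 = true := by decide +kernel

theorem chk0_r44 : rowB lit0 44 = true := by decide +kernel

theorem chk0_r45 : rowB lit0 45 = true := by decide +kernel

theorem chk0_r46 : rowB lit0 46 = true := by decide +kernel

theorem chk0_r47 : rowB lit0 47 = true := by decide +kernel

theorem chk0_r48 : rowB lit0 48 = true := by decide +kernel

theorem chk0_r49 : rowB lit0 49 = true := by decide +kernel

theorem chk0_r50 : rowB lit0 50 = true := by decide +kernel

theorem chk0_r51 : rowB lit0 51 = true := by decide +kernel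

theorem chk0_r52 : rowB lit0 52 = true := by decide +kernel

theorem chk0_r53 : rowB lit0 53 = true := by decide +kernel

theorem chk0_r54 : rowB lit0 54 = true := by decide +kernel

theorem chk0_r55 : rowB lit0 55 = true := by decide +kernel

theorem chk0_r56 : rowB lit0 56 = true := by decide +kernel

theorem chk0_r57 : rowB lit0 57 = true := by decide +kernel

theorem chk0_r58 : rowB lit0 58 = true := by decide +kernel

theorem chk0_r59 : rowB lit0 59 = true := by decide +kernel

theorem chk0_r60 : rowB lit0 60 = true := by decide +kernel

theorem chk0_r61 : rowB lit0 61 = true := by decide +kernel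

theorem chk0_r62 : rowB lit0 62 = true := by decide +kernel

theorem chk0_r63 : rowB lit0 63 = true := by decide +kernel

theorem chk0_r64 : rowB lit0 64 = true := by decide +kernel

theorem chk0_r65 : rowB lit0 65 = true := by decide +kernel

theorem chk0_r66 : rowB lit0 66 = true := by decide +kernel

theorem chk0_r67 : rowB lit0 67 = true := by decide +kernel

theorem chk0_r68 : rowB lit0 68 = true := by decide +kernel

theorem chk0_r69 : rowB lit0 69 = true := by decide +kernel

theorem chk0_r70 : rowB lit0 70 = true := by decide +kernel

theorem chk0_r71 : rowB lit0 71 = true := by decide +kernel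

theorem chk0_r72 : rowB lit0 72 = true := by decide +kernel

theorem chk0_r73 : rowB lit0 73 = true := by decide +kernel

theorem chk0_r74 : rowB lit0 74 = true := by decide +kernel

theorem chk0_r75 : rowB lit0 75 = true := by decide +kernel

theorem chk0_r76 : rowB lit0 76 = true := by decide +kernel

theorem chk0_r77 : rowB lit0 77 = true := by decide +kernel

theorem chk0_r78 : rowB lit0 78 = true := by decide +kernel

theorem chk0_r79 : rowB lit0 79 = true := by decide +kernel

theorem chk0_r80 : rowB lit0 80 = true := by decide +kernel

theorem chk0_r81 : rowB lit0 81 = true := by decide +kernel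

theorem chk0_r82 : rowB lit0 82 = true := by decide +kernel

theorem chk0_r83 : rowB lit0 83 = true := by decide +kernel

theorem chk0_r84 : rowB lit0 84 = true := by decide +kernel

theorem chk0_r85 : rowB lit0 85 = true := by decide +kernel

theorem chk0_r86 : rowB lit0 86 = true := by decide +kernel

theorem chk0_r87 : rowB lit0 87 = true := by decide +kernel

theorem chk0_r88 : rowB lit0 88 = true := by decide +kernel

theorem chk0_r89 : rowB lit0 89 = true := by decide +kernel

theorem chk0_r90 : rowB lit0 90 = true := by decide +kernel

theorem chk0_r91 : rowB lit0 91 = true := by decide +kernel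

theorem chk0_r92 : rowB lit0 92 = true := by decide +kernel

theorem chk0_r93 : rowB lit0 93 = true := by decide +kernel

theorem chk0_r94 : rowB lit0 94 = true := by decide +kernel

theorem chk0_r95 : rowB lit0 95 = true := by decide +kernel

theorem chk0_r96 : rowB lit0 96 = true := by decide +kernel

theorem chk0_r97 : rowB lit0 97 = true := by decide +kernel

theorem chk0_r98 : rowB lit0 98 = true := by decide +kernel

theorem chk0_r99 : rowB lit0 99 = true := by decide +kernel

theorem chk0_r100 : rowB lit0 100 = true := by decide +kernel

theorem chk0_r101 : rowB lit0 101 = true := by decide +kernel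

theorem chk0_r102 : rowB lit0 102 = true := by decide +kernel

theorem chk0_r103 : rowB lit0 103 = true := by decide +kernel

theorem chk0_r104 : rowB lit0 104 = true := by decide +kernel

theorem chk0_r105 : rowB lit0 105 = true := by decide +kernel

theorem chk0_r106 : rowB lit0 106 = true := by decide +kernel

theorem chk0_r107 : rowB lit0 107 = true := by decide +kernel

theorem chk0_r108 : rowB lit0 108 = true := by decide +kernel

theorem chk0_r109 : rowB lit0 109 = true := by decide +kernel

theorem chk0_r110 : rowB lit0 110 = true := by decide +kernel

theorem chk0_r111 : rowB lit0 111 = true := by decide +kernel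

theorem chk0_r112 : rowB lit0 112 = true := by decide +kernel

theorem chk0_r113 : rowB lit0 113 = true := by decide +kernel

theorem chk0_r114 : rowB lit0 114 = true := by decide +kernel

theorem chk0_r115 : rowB lit0 115 = true := by decide +kernel

theorem chk0_r116 : rowB lit0 116 = true := by decide +kernel

theorem chk0_r117 : rowB lit0 117 = true := by decide +kernel

theorem chk0_r118 : rowB lit0 118 = true := by decide +kernel

theorem chk0_r119 : rowB lit0 119 = true := by decide +kernel

theorem chk0_r120 : rowB lit0 120 = true := by decide +kernel

theorem chk0_r121 : rowB lit0 121 = true := by decide +kernel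

theorem chk0_r122 : rowB lit0 122 = true := by decide +kernel

theorem chk0_r123 : rowB lit0 123 = true := by decide +kernel

theorem chk0_r124 : rowB lit0 124 = true := by decide +kernel

theorem chk0_r125 : rowB lit0 125 = true := by decide +kernel

theorem chk0_r126 : rowB lit0 126 = true := by decide +kernel

theorem chk0_r127 : rowB lit0 127 = true := by decide +kernel

theorem chk0_r128 : rowB lit0 128 = true := by decide +kernel

theorem chk0_r129 : rowB lit0 129 = true := by decide +kernel

theorem chk0_r130 : rowB lit0 130 = true := by decide +kernel

theorem chk0_r131 : rowB lit0 131 = true := by decide +kernel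

theorem chk0_r132 : rowB lit0 132 = true := by decide +kernel

theorem chk0_upTo0 : ∀ j, j < 0 → rowB lit0 j = true := rows_zero

theorem chk0_upTo19 : ∀ j, j < 19 → rowB lit0 j = true :=
  rows_step (rows_step (rows_step (rows_step (rows_step (rows_step (rows_step (rows_step (rows_step (rows_step (rows_step (rows_step (rows_step (rows_step (rows_step (rows_step (rows_step (rows_step (rows_step chk0_upTo0 chk0_r0) chk0_r1) chk0_r2) chk0_r3) chk0_r4) chk0_r5) chk0_r6) chk0_r7) chk0_r8) chk0_r9) chk0_r10) chk0_r11) chk0_r12) chk0_r13) chk0_r14) chk0_r15) chk0_r16) chk0_r17) chk0_r18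

theorem chk0_upTo38 : ∀ j, j < 38 → rowB lit0 j = true :=
  rows_step (rows_step (rows_step (rows_step (rows_step (rows_step (rows_step (rows_step (rows_step (rows_step (rows_step (rows_step (rows_step (rows_step (rows_step (rows_step (rows_step (rows_step (rows_step chk0_upTo19 chk0_r19) chk0_r20) chk0_r21) chk0_r22) chk0_r23) chk0_r24) chk0_r25) chk0_r26) chk0_r27) chk0_r28) chk0_r29) chk0_r30) chk0_r31) chk0_r32) chk0_r33) chk0_r34) chk0_r35) chk0_r36) chk0_r37

theorem chk0_upTo57 : ∀ j, j < 57 → rowB lit0 j = true :=
  rows_step (rows_step (rows_step (rows_step (rows_step (rows_step (rows_step (rows_step (rows_step (rows_step (rows_step (rows_step (rows_step (rows_step (rows_step (rows_step (rows_step (rows_step (rows_step chk0_upTo38 chk0_r38) chk0_r39) chk0_r40) chk0_r41) chk0_r42) chk0_r43) chk0_r44) chk0_r45) chk0_r46) chk0_r47) chk0_r48) chk0_r49) chk0_r50) chk0_r51) chk0_r52) chk0_r53) chk0_r54) chk0_r55) chk0_r56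

theorem chk0_upTo76 : ∀ j, j < 76 → rowB lit0 j = true :=
  rows_step (rows_step (rows_step (rows_step (rows_step (rows_step (rows_step (rows_step (rows_step (rows_step (rows_step (rows_step (rows_step (rows_step (rows_step (rows_step (rows_step (rows_step (rows_step chk0_upTo57 chk0_r57) chk0_r58) chk0_r59) chk0_r60) chk0_r61) chk0_r62) chk0_r63) chk0_r64) chk0_r65) chk0_r66) chk0_r67) chk0_r68) chk0_r69) chk0_r70) chk0_r71) chk0_r72) chk0_r73) chk0_r74) chk0_r75

theorem chk0_upTo95 : ∀ j, j < 95 → rowB lit0 j = true :=
  rows_step (rows_step (rows_step (rows_step (rows_step (rows_step (rows_step (rows_step (rows_step (rows_step (rows_step (rows_step (rows_step (rows_step (rows_step (rows_step (rows_step (rows_step (rows_step chk0_upTo76 chk0_r76) chk0_r77) chk0_r78) chk0_r79) chk0_r80) chk0_r81) chk0_r82) chk0_r83) chk0_r84) chk0_r85) chk0_r86) chk0_r87) chk0_r88) chk0_r89) chk0_r90) chk0_r91) chk0_r92) chk0_r93) chk0_r94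

theorem chk0_upTo114 : ∀ j, j < 114 → rowB lit0 j = true :=
  rows_step (rows_step (rows_step (rows_step (rows_step (rows_step (rows_step (rows_step (rows_step (rows_step (rows_step (rows_step (rows_step (rows_step (rows_step (rows_step (rows_step (rows_step (rows_step chk0_upTo95 chk0_r95) chk0_r96) chk0_r97) chk0_r98) chk0_r99) chk0_r100) chk0_r101) chk0_r102) chk0_r103) chk0_r104) chk0_r105) chk0_r106) chk0_r107) chk0_r108) chk0_r109) chk0_r110) chk0_r111) chk0_r112) chk0_r113

theorem chk0_upTo133 : ∀ j, j < 133 → rowB lit0 j = true :=
  rows_step (rows_step (rows_step (rows_step (rows_step (rows_step (rows_step (rows_step (rows_step (rows_step (rows_step (rows_step (rows_step (rows_step (rows_step (rows_step (rows_step (rows_step (rows_step chk0_upTo114 chk0_r114) chk0_r115) chk0_r116) chk0_r117) chk0_r118) chk0_r119) chk0_r120) chk0_r121) chk0_r122) chk0_r123) chk0_r124) chk0_r125) chk0_r126) chk0_r127) chk0_r128) chk0_r129) chk0_r130) chk0_r131) chk0_r132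

theorem chk0 : id133.map (rowW mask133 m133 (chkW 0)) = id133 := by
  rw [chk0_word]
  exact map_of_rows chk0_upTo133

end Cfsg.Agent.HNRec.Amalgam
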