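import Cfsg.Agent.HNRec.Amalgam.Words

/-! Generated: kernel checks of one word, a row per theorem (the kernel caches terms by the low bits of
literals, so large single checks are quadratic). -/

set_option Elab.async false
set_option maxRecDepth 100000

namespace Cfsg.Agent.HNRec.Amalgam

open Cfsg.Agent.HNSub

/-- The word, written out. -/
def lit1 : List Nat := [3, 3, 3, 2, 3, 0, 2, 2, 3, 3, 3, 2, 3, 0, 2, 4, 4]

theorem chk1_word : chkW 1 = lit1 := by decide +kernel

theorem chk1_r0 : rowB lit1 0 = true := by decide +kernel

theorem chk1_r1 : rowB lit1 1 = true := by decide +kernel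

theorem chk1_r2 : rowB lit1 2 = true := by decide +kernel

theorem chk1_r3 : rowB lit1 3 = true := by decide +kernel

theorem chk1_r4 : rowB lit1 4 = true := by decide +kernel

theorem chk1_r5 : rowB lit1 5 = true := by decide +kernel

theorem chk1_r6 : rowB lit1 6 = true := by decide +kernel

theorem chk1_r7 : rowB lit1 7 = true := by decide +kernel

theorem chk1_r8 : rowB lit1 8 = true := by decide +kernel

theorem chk1_r9 : rowB lit1 9 = true := by decide +kernel

theorem chk1_r10 : rowB lit1 10 = true := by decide +kernel

theorem chk1_r11 : rowB lit1 11 = true := by decide +kernel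

theorem chk1_r12 : rowB lit1 12 = true := by decide +kernel

theorem chk1_r13 : rowB lit1 13 = true := by decide +kernel

theorem chk1_r14 : rowB lit1 14 = true := by decide +kernel

theorem chk1_r15 : rowB lit1 15 = true := by decide +kernel

theorem chk1_r16 : rowB lit1 16 = true := by decide +kernel

theorem chk1_r17 : rowB lit1 17 = true := by decide +kernel

theorem chk1_r18 : rowB lit1 18 = true := by decide +kernel

theorem chk1_r19 : rowB lit1 19 = true := by decide +kernel

theorem chk1_r20 : rowB lit1 20 = true := by decide +kernel

theorem chk1_r21 : rowB lit1 21 = true := by decide +kernel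

theorem chk1_r22 : rowB lit1 22 = true := by decide +kernel

theorem chk1_r23 : rowB lit1 23 = true := by decide +kernel

theorem chk1_r24 : rowB lit1 24 = true := by decide +kernel

theorem chk1_r25 : rowB lit1 25 = true := by decide +kernel

theorem chk1_r26 : rowB lit1 26 = true := by decide +kernel

theorem chk1_r27 : rowB lit1 27 = true := by decide +kernel

theorem chk1_r28 : rowB lit1 28 = true := by decide +kernel

theorem chk1_r29 : rowB lit1 29 = true := by decide +kernel

theorem chk1_r30 : rowB lit1 30 = true := by decide +kernel

theorem chk1_r31 : rowB lit1 31 = true := by decide +kernel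

theorem chk1_r32 : rowB lit1 32 = true := by decide +kernel

theorem chk1_r33 : rowB lit1 33 = true := by decide +kernel

theorem chk1_r34 : rowB lit1 34 = true := by decide +kernel

theorem chk1_r35 : rowB lit1 35 = true := by decide +kernel

theorem chk1_r36 : rowB lit1 36 = true := by decide +kernel

theorem chk1_r37 : rowB lit1 37 = true := by decide +kernel

theorem chk1_r38 : rowB lit1 38 = true := by decide +kernel

theorem chk1_r39 : rowB lit1 39 = true := by decide +kernel

theorem chk1_r40 : rowB lit1 40 = true := by decide +kernel

theorem chk1_r41 : rowB lit1 41 = true := by decide +kernel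

theorem chk1_r42 : rowB lit1 42 = true := by decide +kernel

theorem chk1_r43 : rowB lit1 43 = true := by decide +kernel

theorem chk1_r44 : rowB lit1 44 = true := by decide +kernel

theorem chk1_r45 : rowB lit1 45 = true := by decide +kernel

theorem chk1_r46 : rowB lit1 46 = true := by decide +kernel

theorem chk1_r47 : rowB lit1 47 = true := by decide +kernel

theorem chk1_r48 : rowB lit1 48 = true := by decide +kernel

theorem chk1_r49 : rowB lit1 49 = true := by decide +kernel

theorem chk1_r50 : rowB lit1 50 = true := by decide +kernel

theorem chk1_r51 : rowB lit1 51 = true := by decide +kernel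

theorem chk1_r52 : rowB lit1 52 = true := by decide +kernel

theorem chk1_r53 : rowB lit1 53 = true := by decide +kernel

theorem chk1_r54 : rowB lit1 54 = true := by decide +kernel

theorem chk1_r55 : rowB lit1 55 = true := by decide +kernel

theorem chk1_r56 : rowB lit1 56 = true := by decide +kernel

theorem chk1_r57 : rowB lit1 57 = true := by decide +kernel

theorem chk1_r58 : rowB lit1 58 = true := by decide +kernel

theorem chk1_r59 : rowB lit1 59 = true := by decide +kernel

theorem chk1_r60 : rowB lit1 60 = true := by decide +kernel

theorem chk1_r61 : rowB lit1 61 = true := by decide +kernel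

theorem chk1_r62 : rowB lit1 62 = true := by decide +kernel

theorem chk1_r63 : rowB lit1 63 = true := by decide +kernel

theorem chk1_r64 : rowB lit1 64 = true := by decide +kernel

theorem chk1_r65 : rowB lit1 65 = true := by decide +kernel

theorem chk1_r66 : rowB lit1 66 = true := by decide +kernel

theorem chk1_r67 : rowB lit1 67 = true := by decide +kernel

theorem chk1_r68 : rowB lit1 68 = true := by decide +kernel

theorem chk1_r69 : rowB lit1 69 = true := by decide +kernel

theorem chk1_r70 : rowB lit1 70 = true := by decide +kernel

theorem chk1_r71 : rowB lit1 71 = true := by decide +kernel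

theorem chk1_r72 : rowB lit1 72 = true := by decide +kernel

theorem chk1_r73 : rowB lit1 73 = true := by decide +kernel

theorem chk1_r74 : rowB lit1 74 = true := by decide +kernel

theorem chk1_r75 : rowB lit1 75 = true := by decide +kernel

theorem chk1_r76 : rowB lit1 76 = true := by decide +kernel

theorem chk1_r77 : rowB lit1 77 = true := by decide +kernel

theorem chk1_r78 : rowB lit1 78 = true := by decide +kernel

theorem chk1_r79 : rowB lit1 79 = true := by decide +kernel

theorem chk1_r80 : rowB lit1 80 = true := by decide +kernel

theorem chk1_r81 : rowB lit1 81 = true := by decide +kernel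

theorem chk1_r82 : rowB lit1 82 = true := by decide +kernel

theorem chk1_r83 : rowB lit1 83 = true := by decide +kernel

theorem chk1_r84 : rowB lit1 84 = true := by decide +kernel

theorem chk1_r85 : rowB lit1 85 = true := by decide +kernel

theorem chk1_r86 : rowB lit1 86 = true := by decide +kernel

theorem chk1_r87 : rowB lit1 87 = true := by decide +kernel

theorem chk1_r88 : rowB lit1 88 = true := by decide +kernel

theorem chk1_r89 : rowB lit1 89 = true := by decide +kernel

theorem chk1_r90 : rowB lit1 90 = true := by decide +kernel

theorem chk1_r91 : rowB lit1 91 = true := by decide +kernel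

theorem chk1_r92 : rowB lit1 92 = true := by decide +kernel

theorem chk1_r93 : rowB lit1 93 = true := by decide +kernel

theorem chk1_r94 : rowB lit1 94 = true := by decide +kernel

theorem chk1_r95 : rowB lit1 95 = true := by decide +kernel

theorem chk1_r96 : rowB lit1 96 = true := by decide +kernel

theorem chk1_r97 : rowB lit1 97 = true := by decide +kernel

theorem chk1_r98 : rowB lit1 98 = true := by decide +kernel

theorem chk1_r99 : rowB lit1 99 = true := by decide +kernel

theorem chk1_r100 : rowB lit1 100 = true := by decide +kernel

theorem chk1_r101 : rowB lit1 101 = true := by decide +kernel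

theorem chk1_r102 : rowB lit1 102 = true := by decide +kernel

theorem chk1_r103 : rowB lit1 103 = true := by decide +kernel

theorem chk1_r104 : rowB lit1 104 = true := by decide +kernel

theorem chk1_r105 : rowB lit1 105 = true := by decide +kernel

theorem chk1_r106 : rowB lit1 106 = true := by decide +kernel

theorem chk1_r107 : rowB lit1 107 = true := by decide +kernel

theorem chk1_r108 : rowB lit1 108 = true := by decide +kernel

theorem chk1_r109 : rowB lit1 109 = true := by decide +kernel

theorem chk1_r110 : rowB lit1 110 = true := by decide +kernel

theorem chk1_r111 : rowB lit1 111 = true := by decide +kernel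

theorem chk1_r112 : rowB lit1 112 = true := by decide +kernel

theorem chk1_r113 : rowB lit1 113 = true := by decide +kernel

theorem chk1_r114 : rowB lit1 114 = true := by decide +kernel

theorem chk1_r115 : rowB lit1 115 = true := by decide +kernel

theorem chk1_r116 : rowB lit1 116 = true := by decide +kernel

theorem chk1_r117 : rowB lit1 117 = true := by decide +kernel

theorem chk1_r118 : rowB lit1 118 = true := by decide +kernel

theorem chk1_r119 : rowB lit1 119 = true := by decide +kernel

theorem chk1_r120 : rowB lit1 120 = true := by decide +kernel

theorem chk1_r121 : rowB lit1 121 = true := by decide +kernel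

theorem chk1_r122 : rowB lit1 122 = true := by decide +kernel

theorem chk1_r123 : rowB lit1 123 = true := by decide +kernel

theorem chk1_r124 : rowB lit1 124 = true := by decide +kernel

theorem chk1_r125 : rowB lit1 125 = true := by decide +kernel

theorem chk1_r126 : rowB lit1 126 = true := by decide +kernel

theorem chk1_r127 : rowB lit1 127 = true := by decide +kernel

theorem chk1_r128 : rowB lit1 128 = true := by decide +kernel

theorem chk1_r129 : rowB lit1 129 = true := by decide +kernel

theorem chk1_r130 : rowB lit1 130 = true := by decide +kernel

theorem chk1_r131 : rowB lit1 131 = true := by decide +kernel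

theorem chk1_r132 : rowB lit1 132 = true := by decide +kernel

theorem chk1_upTo0 : ∀ j, j < 0 → rowB lit1 j = true := rows_zero

theorem chk1_upTo19 : ∀ j, j < 19 → rowB lit1 j = true :=
  rows_step (rows_step (rows_step (rows_step (rows_step (rows_step (rows_step (rows_step (rows_step (rows_step (rows_step (rows_step (rows_step (rows_step (rows_step (rows_step (rows_step (rows_step (rows_step chk1_upTo0 chk1_r0) chk1_r1) chk1_r2) chk1_r3) chk1_r4) chk1_r5) chk1_r6) chk1_r7) chk1_r8) chk1_r9) chk1_r10) chk1_r11) chk1_r12) chk1_r13) chk1_r14) chk1_r15) chk1_r16) chk1_r17) chk1_r18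

theorem chk1_upTo38 : ∀ j, j < 38 → rowB lit1 j = true :=
  rows_step (rows_step (rows_step (rows_step (rows_step (rows_step (rows_step (rows_step (rows_step (rows_step (rows_step (rows_step (rows_step (rows_step (rows_step (rows_step (rows_step (rows_step (rows_step chk1_upTo19 chk1_r19) chk1_r20) chk1_r21) chk1_r22) chk1_r23) chk1_r24) chk1_r25) chk1_r26) chk1_r27) chk1_r28) chk1_r29) chk1_r30) chk1_r31) chk1_r32) chk1_r33) chk1_r34) chk1_r35) chk1_r36) chk1_r37

theorem chk1_upTo57 : ∀ j, j < 57 → rowB lit1 j = true :=
  rows_step (rows_step (rows_step (rows_step (rows_step (rows_step (rows_step (rows_step (rows_step (rows_step (rows_step (rows_step (rows_step (rows_step (rows_step (rows_step (rows_step (rows_step (rows_step chk1_upTo38 chk1_r38) chk1_r39) chk1_r40) chk1_r41) chk1_r42) chk1_r43) chk1_r44) chk1_r45) chk1_r46) chk1_r47) chk1_r48) chk1_r49) chk1_r50) chk1_r51) chk1_r52) chk1_r53) chk1_r54) chk1_r55) chk1_r56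

theorem chk1_upTo76 : ∀ j, j < 76 → rowB lit1 j = true :=
  rows_step (rows_step (rows_step (rows_step (rows_step (rows_step (rows_step (rows_step (rows_step (rows_step (rows_step (rows_step (rows_step (rows_step (rows_step (rows_step (rows_step (rows_step (rows_step chk1_upTo57 chk1_r57) chk1_r58) chk1_r59) chk1_r60) chk1_r61) chk1_r62) chk1_r63) chk1_r64) chk1_r65) chk1_r66) chk1_r67) chk1_r68) chk1_r69) chk1_r70) chk1_r71) chk1_r72) chk1_r73) chk1_r74) chk1_r75

theorem chk1_upTo95 : ∀ j, j < 95 → rowB lit1 j = true :=
  rows_step (rows_step (rows_step (rows_step (rows_step (rows_step (rows_step (rows_step (rows_step (rows_step (rows_step (rows_step (rows_step (rows_step (rows_step (rows_step (rows_step (rows_step (rows_step chk1_upTo76 chk1_r76) chk1_r77) chk1_r78) chk1_r79) chk1_r80) chk1_r81) chk1_r82) chk1_r83) chk1_r84) chk1_r85) chk1_r86) chk1_r87) chk1_r88) chk1_r89) chk1_r90) chk1_r91) chk1_r92) chk1_r93) chk1_r94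

theorem chk1_upTo114 : ∀ j, j < 114 → rowB lit1 j = true :=
  rows_step (rows_step (rows_step (rows_step (rows_step (rows_step (rows_step (rows_step (rows_step (rows_step (rows_step (rows_step (rows_step (rows_step (rows_step (rows_step (rows_step (rows_step (rows_step chk1_upTo95 chk1_r95) chk1_r96) chk1_r97) chk1_r98) chk1_r99) chk1_r100) chk1_r101) chk1_r102) chk1_r103) chk1_r104) chk1_r105) chk1_r106) chk1_r107) chk1_r108) chk1_r109) chk1_r110) chk1_r111) chk1_r112) chk1_r113

theorem chk1_upTo133 : ∀ j, j < 133 → rowB lit1 j = true :=
  rows_step (rows_step (rows_step (rows_step (rows_step (rows_step (rows_step (rows_step (rows_step (rows_step (rows_step (rows_step (rows_step (rows_step (rows_step (rows_step (rows_step (rows_step (rows_step chk1_upTo114 chk1_r114) chk1_r115) chk1_r116) chk1_r117) chk1_r118) chk1_r119) chk1_r120) chk1_r121) chk1_r122) chk1_r123) chk1_r124) chk1_r125) chk1_r126) chk1_r127) chk1_r128) chk1_r129) chk1_r130) chk1_r131) chk1_r132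

theorem chk1 : id133.map (rowW mask133 m133 (chkW 1)) = id133 := by
  rw [chk1_word]
  exact map_of_rows chk1_upTo133

end Cfsg.Agent.HNRec.Amalgam
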