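import Cfsg.Agent.HNRec.Amalgam.Words

/-! Generated: kernel checks of one word, a row per theorem (the kernel caches terms by the low bits of
literals, so large single checks are quadratic). -/

set_option Elab.async false
set_option maxRecDepth 100000

namespace Cfsg.Agent.HNRec.Amalgam

open Cfsg.Agent.HNSub

/-- The word, written out. -/
def lit2 : List Nat := [3, 3, 3, 2, 3, 0, 2, 0, 0, 3, 3, 3, 2, 3, 0, 2, 6]

theorem chk2_word : chkW 2 = lit2 := by decide +kernel

theorem chk2_r0 : rowB lit2 0 = true := by decide +kernel

theorem chk2_r1 : rowB lit2 1 = true := by decide +kernel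

theorem chk2_r2 : rowB lit2 2 = true := by decide +kernel

theorem chk2_r3 : rowB lit2 3 = true := by decide +kernel

theorem chk2_r4 : rowB lit2 4 = true := by decide +kernel

theorem chk2_r5 : rowB lit2 5 = true := by decide +kernel

theorem chk2_r6 : rowB lit2 6 = true := by decide +kernel

theorem chk2_r7 : rowB lit2 7 = true := by decide +kernel

theorem chk2_r8 : rowB lit2 8 = true := by decide +kernel

theorem chk2_r9 : rowB lit2 9 = true := by decide +kernel

theorem chk2_r10 : rowB lit2 10 = true := by decide +kernel

theorem chk2_r11 : rowB lit2 11 = true := by decide +kernel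

theorem chk2_r12 : rowB lit2 12 = true := by decide +kernel

theorem chk2_r13 : rowB lit2 13 = true := by decide +kernel

theorem chk2_r14 : rowB lit2 14 = true := by decide +kernel

theorem chk2_r15 : rowB lit2 15 = true := by decide +kernel

theorem chk2_r16 : rowB lit2 16 = true := by decide +kernel

theorem chk2_r17 : rowB lit2 17 = true := by decide +kernel

theorem chk2_r18 : rowB lit2 18 = true := by decide +kernel

theorem chk2_r19 : rowB lit2 19 = true := by decide +kernel

theorem chk2_r20 : rowB lit2 20 = true := by decide +kernel

theorem chk2_r21 : rowB lit2 21 = true := by decide +kernel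

theorem chk2_r22 : rowB lit2 22 = true := by decide +kernel

theorem chk2_r23 : rowB lit2 23 = true := by decide +kernel

theorem chk2_r24 : rowB lit2 24 = true := by decide +kernel

theorem chk2_r25 : rowB lit2 25 = true := by decide +kernel

theorem chk2_r26 : rowB lit2 26 = true := by decide +kernel

theorem chk2_r27 : rowB lit2 27 = true := by decide +kernel

theorem chk2_r28 : rowB lit2 28 = true := by decide +kernel

theorem chk2_r29 : rowB lit2 29 = true := by decide +kernel

theorem chk2_r30 : rowB lit2 30 = true := by decide +kernel

theorem chk2_r31 : rowB lit2 31 = true := by decide +kernel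

theorem chk2_r32 : rowB lit2 32 = true := by decide +kernel

theorem chk2_r33 : rowB lit2 33 = true := by decide +kernel

theorem chk2_r34 : rowB lit2 34 = true := by decide +kernel

theorem chk2_r35 : rowB lit2 35 = true := by decide +kernel

theorem chk2_r36 : rowB lit2 36 = true := by decide +kernel

theorem chk2_r37 : rowB lit2 37 = true := by decide +kernel

theorem chk2_r38 : rowB lit2 38 = true := by decide +kernel

theorem chk2_r39 : rowB lit2 39 = true := by decide +kernel

theorem chk2_r40 : rowB lit2 40 = true := by decide +kernel

theorem chk2_r41 : rowB lit2 41 = true := by decide +kernel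

theorem chk2_r42 : rowB lit2 42 = true := by decide +kernel

theorem chk2_r43 : rowB lit2 43 = true := by decide +kernel

theorem chk2_r44 : rowB lit2 44 = true := by decide +kernel

theorem chk2_r45 : rowB lit2 45 = true := by decide +kernel

theorem chk2_r46 : rowB lit2 46 = true := by decide +kernel

theorem chk2_r47 : rowB lit2 47 = true := by decide +kernel

theorem chk2_r48 : rowB lit2 48 = true := by decide +kernel

theorem chk2_r49 : rowB lit2 49 = true := by decide +kernel

theorem chk2_r50 : rowB lit2 50 = true := by decide +kernel

theorem chk2_r51 : rowB lit2 51 = true := by decide +kernel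

theorem chk2_r52 : rowB lit2 52 = true := by decide +kernel

theorem chk2_r53 : rowB lit2 53 = true := by decide +kernel

theorem chk2_r54 : rowB lit2 54 = true := by decide +kernel

theorem chk2_r55 : rowB lit2 55 = true := by decide +kernel

theorem chk2_r56 : rowB lit2 56 = true := by decide +kernel

theorem chk2_r57 : rowB lit2 57 = true := by decide +kernel

theorem chk2_r58 : rowB lit2 58 = true := by decide +kernel

theorem chk2_r59 : rowB lit2 59 = true := by decide +kernel

theorem chk2_r60 : rowB lit2 60 = true := by decide +kernel

theorem chk2_r61 : rowB lit2 61 = true := by decide +kernel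

theorem chk2_r62 : rowB lit2 62 = true := by decide +kernel

theorem chk2_r63 : rowB lit2 63 = true := by decide +kernel

theorem chk2_r64 : rowB lit2 64 = true := by decide +kernel

theorem chk2_r65 : rowB lit2 65 = true := by decide +kernel

theorem chk2_r66 : rowB lit2 66 = true := by decide +kernel

theorem chk2_r67 : rowB lit2 67 = true := by decide +kernel

theorem chk2_r68 : rowB lit2 68 = true := by decide +kernel

theorem chk2_r69 : rowB lit2 69 = true := by decide +kernel

theorem chk2_r70 : rowB lit2 70 = true := by decide +kernel

theorem chk2_r71 : rowB lit2 71 = true := by decide +kernel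

theorem chk2_r72 : rowB lit2 72 = true := by decide +kernel

theorem chk2_r73 : rowB lit2 73 = true := by decide +kernel

theorem chk2_r74 : rowB lit2 74 = true := by decide +kernel

theorem chk2_r75 : rowB lit2 75 = true := by decide +kernel

theorem chk2_r76 : rowB lit2 76 = true := by decide +kernel

theorem chk2_r77 : rowB lit2 77 = true := by decide +kernel

theorem chk2_r78 : rowB lit2 78 = true := by decide +kernel

theorem chk2_r79 : rowB lit2 79 = true := by decide +kernel

theorem chk2_r80 : rowB lit2 80 = true := by decide +kernel

theorem chk2_r81 : rowB lit2 81 = true := by decide +kernel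

theorem chk2_r82 : rowB lit2 82 = true := by decide +kernel

theorem chk2_r83 : rowB lit2 83 = true := by decide +kernel

theorem chk2_r84 : rowB lit2 84 = true := by decide +kernel

theorem chk2_r85 : rowB lit2 85 = true := by decide +kernel

theorem chk2_r86 : rowB lit2 86 = true := by decide +kernel

theorem chk2_r87 : rowB lit2 87 = true := by decide +kernel

theorem chk2_r88 : rowB lit2 88 = true := by decide +kernel

theorem chk2_r89 : rowB lit2 89 = true := by decide +kernel

theorem chk2_r90 : rowB lit2 90 = true := by decide +kernel

theorem chk2_r91 : rowB lit2 91 = true := by decide +kernel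

theorem chk2_r92 : rowB lit2 92 = true := by decide +kernel

theorem chk2_r93 : rowB lit2 93 = true := by decide +kernel

theorem chk2_r94 : rowB lit2 94 = true := by decide +kernel

theorem chk2_r95 : rowB lit2 95 = true := by decide +kernel

theorem chk2_r96 : rowB lit2 96 = true := by decide +kernel

theorem chk2_r97 : rowB lit2 97 = true := by decide +kernel

theorem chk2_r98 : rowB lit2 98 = true := by decide +kernel

theorem chk2_r99 : rowB lit2 99 = true := by decide +kernel

theorem chk2_r100 : rowB lit2 100 = true := by decide +kernel

theorem chk2_r101 : rowB lit2 101 = true := by decide +kernel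

theorem chk2_r102 : rowB lit2 102 = true := by decide +kernel

theorem chk2_r103 : rowB lit2 103 = true := by decide +kernel

theorem chk2_r104 : rowB lit2 104 = true := by decide +kernel

theorem chk2_r105 : rowB lit2 105 = true := by decide +kernel

theorem chk2_r106 : rowB lit2 106 = true := by decide +kernel

theorem chk2_r107 : rowB lit2 107 = true := by decide +kernel

theorem chk2_r108 : rowB lit2 108 = true := by decide +kernel

theorem chk2_r109 : rowB lit2 109 = true := by decide +kernel

theorem chk2_r110 : rowB lit2 110 = true := by decide +kernel

theorem chk2_r111 : rowB lit2 111 = true := by decide +kernel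

theorem chk2_r112 : rowB lit2 112 = true := by decide +kernel

theorem chk2_r113 : rowB lit2 113 = true := by decide +kernel

theorem chk2_r114 : rowB lit2 114 = true := by decide +kernel

theorem chk2_r115 : rowB lit2 115 = true := by decide +kernel

theorem chk2_r116 : rowB lit2 116 = true := by decide +kernel

theorem chk2_r117 : rowB lit2 117 = true := by decide +kernel

theorem chk2_r118 : rowB lit2 118 = true := by decide +kernel

theorem chk2_r119 : rowB lit2 119 = true := by decide +kernel

theorem chk2_r120 : rowB lit2 120 = true := by decide +kernel

theorem chk2_r121 : rowB lit2 121 = true := by decide +kernel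

theorem chk2_r122 : rowB lit2 122 = true := by decide +kernel

theorem chk2_r123 : rowB lit2 123 = true := by decide +kernel

theorem chk2_r124 : rowB lit2 124 = true := by decide +kernel

theorem chk2_r125 : rowB lit2 125 = true := by decide +kernel

theorem chk2_r126 : rowB lit2 126 = true := by decide +kernel

theorem chk2_r127 : rowB lit2 127 = true := by decide +kernel

theorem chk2_r128 : rowB lit2 128 = true := by decide +kernel

theorem chk2_r129 : rowB lit2 129 = true := by decide +kernel

theorem chk2_r130 : rowB lit2 130 = true := by decide +kernel

theorem chk2_r131 : rowB lit2 131 = true := by decide +kernel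

theorem chk2_r132 : rowB lit2 132 = true := by decide +kernel

theorem chk2_upTo0 : ∀ j, j < 0 → rowB lit2 j = true := rows_zero

theorem chk2_upTo19 : ∀ j, j < 19 → rowB lit2 j = true :=
  rows_step (rows_step (rows_step (rows_step (rows_step (rows_step (rows_step (rows_step (rows_step (rows_step (rows_step (rows_step (rows_step (rows_step (rows_step (rows_step (rows_step (rows_step (rows_step chk2_upTo0 chk2_r0) chk2_r1) chk2_r2) chk2_r3) chk2_r4) chk2_r5) chk2_r6) chk2_r7) chk2_r8) chk2_r9) chk2_r10) chk2_r11) chk2_r12) chk2_r13) chk2_r14) chk2_r15) chk2_r16) chk2_r17) chk2_r18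

theorem chk2_upTo38 : ∀ j, j < 38 → rowB lit2 j = true :=
  rows_step (rows_step (rows_step (rows_step (rows_step (rows_step (rows_step (rows_step (rows_step (rows_step (rows_step (rows_step (rows_step (rows_step (rows_step (rows_step (rows_step (rows_step (rows_step chk2_upTo19 chk2_r19) chk2_r20) chk2_r21) chk2_r22) chk2_r23) chk2_r24) chk2_r25) chk2_r26) chk2_r27) chk2_r28) chk2_r29) chk2_r30) chk2_r31) chk2_r32) chk2_r33) chk2_r34) chk2_r35) chk2_r36) chk2_r37

theorem chk2_upTo57 : ∀ j, j < 57 → rowB lit2 j = true :=
  rows_step (rows_step (rows_step (rows_step (rows_step (rows_step (rows_step (rows_step (rows_step (rows_step (rows_step (rows_step (rows_step (rows_step (rows_step (rows_step (rows_step (rows_step (rows_step chk2_upTo38 chk2_r38) chk2_r39) chk2_r40) chk2_r41) chk2_r42) chk2_r43) chk2_r44) chk2_r45) chk2_r46) chk2_r47) chk2_r48) chk2_r49) chk2_r50) chk2_r51) chk2_r52) chk2_r53) chk2_r54) chk2_r55) chk2_r56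

theorem chk2_upTo76 : ∀ j, j < 76 → rowB lit2 j = true :=
  rows_step (rows_step (rows_step (rows_step (rows_step (rows_step (rows_step (rows_step (rows_step (rows_step (rows_step (rows_step (rows_step (rows_step (rows_step (rows_step (rows_step (rows_step (rows_step chk2_upTo57 chk2_r57) chk2_r58) chk2_r59) chk2_r60) chk2_r61) chk2_r62) chk2_r63) chk2_r64) chk2_r65) chk2_r66) chk2_r67) chk2_r68) chk2_r69) chk2_r70) chk2_r71) chk2_r72) chk2_r73) chk2_r74) chk2_r75

theorem chk2_upTo95 : ∀ j, j < 95 → rowB lit2 j = true :=
  rows_step (rows_step (rows_step (rows_step (rows_step (rows_step (rows_step (rows_step (rows_step (rows_step (rows_step (rows_step (rows_step (rows_step (rows_step (rows_step (rows_step (rows_step (rows_step chk2_upTo76 chk2_r76) chk2_r77) chk2_r78) chk2_r79) chk2_r80) chk2_r81) chk2_r82) chk2_r83) chk2_r84) chk2_r85) chk2_r86) chk2_r87) chk2_r88) chk2_r89) chk2_r90) chk2_r91) chk2_r92) chk2_r93) chk2_r94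

theorem chk2_upTo114 : ∀ j, j < 114 → rowB lit2 j = true :=
  rows_step (rows_step (rows_step (rows_step (rows_step (rows_step (rows_step (rows_step (rows_step (rows_step (rows_step (rows_step (rows_step (rows_step (rows_step (rows_step (rows_step (rows_step (rows_step chk2_upTo95 chk2_r95) chk2_r96) chk2_r97) chk2_r98) chk2_r99) chk2_r100) chk2_r101) chk2_r102) chk2_r103) chk2_r104) chk2_r105) chk2_r106) chk2_r107) chk2_r108) chk2_r109) chk2_r110) chk2_r111) chk2_r112) chk2_r113

theorem chk2_upTo133 : ∀ j, j < 133 → rowB lit2 j = true :=
  rows_step (rows_step (rows_step (rows_step (rows_step (rows_step (rows_step (rows_step (rows_step (rows_step (rows_step (rows_step (rows_step (rows_step (rows_step (rows_step (rows_step (rows_step (rows_step chk2_upTo114 chk2_r114) chk2_r115) chk2_r116) chk2_r117) chk2_r118) chk2_r119) chk2_r120) chk2_r121) chk2_r122) chk2_r123) chk2_r124) chk2_r125) chk2_r126) chk2_r127) chk2_r128) chk2_r129) chk2_r130) chk2_r131) chk2_r132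

theorem chk2 : id133.map (rowW mask133 m133 (chkW 2)) = id133 := by
  rw [chk2_word]
  exact map_of_rows chk2_upTo133

end Cfsg.Agent.HNRec.Amalgam
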