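import Cfsg.Agent.HNRec.Amalgam.Words

/-! Generated: kernel checks of one word, a row per theorem (the kernel caches terms by the low bits of
literals, so large single checks are quadratic). -/

set_option Elab.async false
set_option maxRecDepth 100000

namespace Cfsg.Agent.HNRec.Amalgam

open Cfsg.Agent.HNSub

/-- The word, written out. -/
def lit3 : List Nat := [3, 3, 3, 2, 3, 0, 2, 0, 6, 0, 5, 1, 4, 4, 6, 3, 3, 3, 2, 3, 0, 2, 6]

theorem chk3_word : chkW 3 = lit3 := by decide +kernel

theorem chk3_r0 : rowB lit3 0 = true := by decide +kernel

theorem chk3_r1 : rowB lit3 1 = true := by decide +kernel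

theorem chk3_r2 : rowB lit3 2 = true := by decide +kernel

theorem chk3_r3 : rowB lit3 3 = true := by decide +kernel

theorem chk3_r4 : rowB lit3 4 = true := by decide +kernel

theorem chk3_r5 : rowB lit3 5 = true := by decide +kernel

theorem chk3_r6 : rowB lit3 6 = true := by decide +kernel

theorem chk3_r7 : rowB lit3 7 = true := by decide +kernel

theorem chk3_r8 : rowB lit3 8 = true := by decide +kernel

theorem chk3_r9 : rowB lit3 9 = true := by decide +kernel

theorem chk3_r10 : rowB lit3 10 = true := by decide +kernel

theorem chk3_r11 : rowB lit3 11 = true := by decide +kernel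

theorem chk3_r12 : rowB lit3 12 = true := by decide +kernel

theorem chk3_r13 : rowB lit3 13 = true := by decide +kernel

theorem chk3_r14 : rowB lit3 14 = true := by decide +kernel

theorem chk3_r15 : rowB lit3 15 = true := by decide +kernel

theorem chk3_r16 : rowB lit3 16 = true := by decide +kernel

theorem chk3_r17 : rowB lit3 17 = true := by decide +kernel

theorem chk3_r18 : rowB lit3 18 = true := by decide +kernel

theorem chk3_r19 : rowB lit3 19 = true := by decide +kernel

theorem chk3_r20 : rowB lit3 20 = true := by decide +kernel

theorem chk3_r21 : rowB lit3 21 = true := by decide +kernel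

theorem chk3_r22 : rowB lit3 22 = true := by decide +kernel

theorem chk3_r23 : rowB lit3 23 = true := by decide +kernel

theorem chk3_r24 : rowB lit3 24 = true := by decide +kernel

theorem chk3_r25 : rowB lit3 25 = true := by decide +kernel

theorem chk3_r26 : rowB lit3 26 = true := by decide +kernel

theorem chk3_r27 : rowB lit3 27 = true := by decide +kernel

theorem chk3_r28 : rowB lit3 28 = true := by decide +kernel

theorem chk3_r29 : rowB lit3 29 = true := by decide +kernel

theorem chk3_r30 : rowB lit3 30 = true := by decide +kernel

theorem chk3_r31 : rowB lit3 31 = true := by decide +kernel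

theorem chk3_r32 : rowB lit3 32 = true := by decide +kernel

theorem chk3_r33 : rowB lit3 33 = true := by decide +kernel

theorem chk3_r34 : rowB lit3 34 = true := by decide +kernel

theorem chk3_r35 : rowB lit3 35 = true := by decide +kernel

theorem chk3_r36 : rowB lit3 36 = true := by decide +kernel

theorem chk3_r37 : rowB lit3 37 = true := by decide +kernel

theorem chk3_r38 : rowB lit3 38 = true := by decide +kernel

theorem chk3_r39 : rowB lit3 39 = true := by decide +kernel

theorem chk3_r40 : rowB lit3 40 = true := by decide +kernel

theorem chk3_r41 : rowB lit3 41 = true := by decide +kernel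

theorem chk3_r42 : rowB lit3 42 = true := by decide +kernel

theorem chk3_r43 : rowB lit3 43 = true := by decide +kernel

theorem chk3_r44 : rowB lit3 44 = true := by decide +kernel

theorem chk3_r45 : rowB lit3 45 = true := by decide +kernel

theorem chk3_r46 : rowB lit3 46 = true := by decide +kernel

theorem chk3_r47 : rowB lit3 47 = true := by decide +kernel

theorem chk3_r48 : rowB lit3 48 = true := by decide +kernel

theorem chk3_r49 : rowB lit3 49 = true := by decide +kernel

theorem chk3_r50 : rowB lit3 50 = true := by decide +kernel

theorem chk3_r51 : rowB lit3 51 = true := by decide +kernel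

theorem chk3_r52 : rowB lit3 52 = true := by decide +kernel

theorem chk3_r53 : rowB lit3 53 = true := by decide +kernel

theorem chk3_r54 : rowB lit3 54 = true := by decide +kernel

theorem chk3_r55 : rowB lit3 55 = true := by decide +kernel

theorem chk3_r56 : rowB lit3 56 = true := by decide +kernel

theorem chk3_r57 : rowB lit3 57 = true := by decide +kernel

theorem chk3_r58 : rowB lit3 58 = true := by decide +kernel

theorem chk3_r59 : rowB lit3 59 = true := by decide +kernel

theorem chk3_r60 : rowB lit3 60 = true := by decide +kernel

theorem chk3_r61 : rowB lit3 61 = true := by decide +kernel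

theorem chk3_r62 : rowB lit3 62 = true := by decide +kernel

theorem chk3_r63 : rowB lit3 63 = true := by decide +kernel

theorem chk3_r64 : rowB lit3 64 = true := by decide +kernel

theorem chk3_r65 : rowB lit3 65 = true := by decide +kernel

theorem chk3_r66 : rowB lit3 66 = true := by decide +kernel

theorem chk3_r67 : rowB lit3 67 = true := by decide +kernel

theorem chk3_r68 : rowB lit3 68 = true := by decide +kernel

theorem chk3_r69 : rowB lit3 69 = true := by decide +kernel

theorem chk3_r70 : rowB lit3 70 = true := by decide +kernel

theorem chk3_r71 : rowB lit3 71 = true := by decide +kernel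

theorem chk3_r72 : rowB lit3 72 = true := by decide +kernel

theorem chk3_r73 : rowB lit3 73 = true := by decide +kernel

theorem chk3_r74 : rowB lit3 74 = true := by decide +kernel

theorem chk3_r75 : rowB lit3 75 = true := by decide +kernel

theorem chk3_r76 : rowB lit3 76 = true := by decide +kernel

theorem chk3_r77 : rowB lit3 77 = true := by decide +kernel

theorem chk3_r78 : rowB lit3 78 = true := by decide +kernel

theorem chk3_r79 : rowB lit3 79 = true := by decide +kernel

theorem chk3_r80 : rowB lit3 80 = true := by decide +kernel

theorem chk3_r81 : rowB lit3 81 = true := by decide +kernel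

theorem chk3_r82 : rowB lit3 82 = true := by decide +kernel

theorem chk3_r83 : rowB lit3 83 = true := by decide +kernel

theorem chk3_r84 : rowB lit3 84 = true := by decide +kernel

theorem chk3_r85 : rowB lit3 85 = true := by decide +kernel

theorem chk3_r86 : rowB lit3 86 = true := by decide +kernel

theorem chk3_r87 : rowB lit3 87 = true := by decide +kernel

theorem chk3_r88 : rowB lit3 88 = true := by decide +kernel

theorem chk3_r89 : rowB lit3 89 = true := by decide +kernel

theorem chk3_r90 : rowB lit3 90 = true := by decide +kernel

theorem chk3_r91 : rowB lit3 91 = true := by decide +kernel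

theorem chk3_r92 : rowB lit3 92 = true := by decide +kernel

theorem chk3_r93 : rowB lit3 93 = true := by decide +kernel

theorem chk3_r94 : rowB lit3 94 = true := by decide +kernel

theorem chk3_r95 : rowB lit3 95 = true := by decide +kernel

theorem chk3_r96 : rowB lit3 96 = true := by decide +kernel

theorem chk3_r97 : rowB lit3 97 = true := by decide +kernel

theorem chk3_r98 : rowB lit3 98 = true := by decide +kernel

theorem chk3_r99 : rowB lit3 99 = true := by decide +kernel

theorem chk3_r100 : rowB lit3 100 = true := by decide +kernel

theorem chk3_r101 : rowB lit3 101 = true := by decide +kernel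

theorem chk3_r102 : rowB lit3 102 = true := by decide +kernel

theorem chk3_r103 : rowB lit3 103 = true := by decide +kernel

theorem chk3_r104 : rowB lit3 104 = true := by decide +kernel

theorem chk3_r105 : rowB lit3 105 = true := by decide +kernel

theorem chk3_r106 : rowB lit3 106 = true := by decide +kernel

theorem chk3_r107 : rowB lit3 107 = true := by decide +kernel

theorem chk3_r108 : rowB lit3 108 = true := by decide +kernel

theorem chk3_r109 : rowB lit3 109 = true := by decide +kernel

theorem chk3_r110 : rowB lit3 110 = true := by decide +kernel

theorem chk3_r111 : rowB lit3 111 = true := by decide +kernel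

theorem chk3_r112 : rowB lit3 112 = true := by decide +kernel

theorem chk3_r113 : rowB lit3 113 = true := by decide +kernel

theorem chk3_r114 : rowB lit3 114 = true := by decide +kernel

theorem chk3_r115 : rowB lit3 115 = true := by decide +kernel

theorem chk3_r116 : rowB lit3 116 = true := by decide +kernel

theorem chk3_r117 : rowB lit3 117 = true := by decide +kernel

theorem chk3_r118 : rowB lit3 118 = true := by decide +kernel

theorem chk3_r119 : rowB lit3 119 = true := by decide +kernel

theorem chk3_r120 : rowB lit3 120 = true := by decide +kernel

theorem chk3_r121 : rowB lit3 121 = true := by decide +kernel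

theorem chk3_r122 : rowB lit3 122 = true := by decide +kernel

theorem chk3_r123 : rowB lit3 123 = true := by decide +kernel

theorem chk3_r124 : rowB lit3 124 = true := by decide +kernel

theorem chk3_r125 : rowB lit3 125 = true := by decide +kernel

theorem chk3_r126 : rowB lit3 126 = true := by decide +kernel

theorem chk3_r127 : rowB lit3 127 = true := by decide +kernel

theorem chk3_r128 : rowB lit3 128 = true := by decide +kernel

theorem chk3_r129 : rowB lit3 129 = true := by decide +kernel

theorem chk3_r130 : rowB lit3 130 = true := by decide +kernel

theorem chk3_r131 : rowB lit3 131 = true := by decide +kernel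

theorem chk3_r132 : rowB lit3 132 = true := by decide +kernel

theorem chk3_upTo0 : ∀ j, j < 0 → rowB lit3 j = true := rows_zero

theorem chk3_upTo19 : ∀ j, j < 19 → rowB lit3 j = true :=
  rows_step (rows_step (rows_step (rows_step (rows_step (rows_step (rows_step (rows_step (rows_step (rows_step (rows_step (rows_step (rows_step (rows_step (rows_step (rows_step (rows_step (rows_step (rows_step chk3_upTo0 chk3_r0) chk3_r1) chk3_r2) chk3_r3) chk3_r4) chk3_r5) chk3_r6) chk3_r7) chk3_r8) chk3_r9) chk3_r10) chk3_r11) chk3_r12) chk3_r13) chk3_r14) chk3_r15) chk3_r16) chk3_r17) chk3_r18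

theorem chk3_upTo38 : ∀ j, j < 38 → rowB lit3 j = true :=
  rows_step (rows_step (rows_step (rows_step (rows_step (rows_step (rows_step (rows_step (rows_step (rows_step (rows_step (rows_step (rows_step (rows_step (rows_step (rows_step (rows_step (rows_step (rows_step chk3_upTo19 chk3_r19) chk3_r20) chk3_r21) chk3_r22) chk3_r23) chk3_r24) chk3_r25) chk3_r26) chk3_r27) chk3_r28) chk3_r29) chk3_r30) chk3_r31) chk3_r32) chk3_r33) chk3_r34) chk3_r35) chk3_r36) chk3_r37

theorem chk3_upTo57 : ∀ j, j < 57 → rowB lit3 j = true :=
  rows_step (rows_step (rows_step (rows_step (rows_step (rows_step (rows_step (rows_step (rows_step (rows_step (rows_step (rows_step (rows_step (rows_step (rows_step (rows_step (rows_step (rows_step (rows_step chk3_upTo38 chk3_r38) chk3_r39) chk3_r40) chk3_r41) chk3_r42) chk3_r43) chk3_r44) chk3_r45) chk3_r46) chk3_r47) chk3_r48) chk3_r49) chk3_r50) chk3_r51) chk3_r52) chk3_r53) chk3_r54) chk3_r55) chk3_r56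

theorem chk3_upTo76 : ∀ j, j < 76 → rowB lit3 j = true :=
  rows_step (rows_step (rows_step (rows_step (rows_step (rows_step (rows_step (rows_step (rows_step (rows_step (rows_step (rows_step (rows_step (rows_step (rows_step (rows_step (rows_step (rows_step (rows_step chk3_upTo57 chk3_r57) chk3_r58) chk3_r59) chk3_r60) chk3_r61) chk3_r62) chk3_r63) chk3_r64) chk3_r65) chk3_r66) chk3_r67) chk3_r68) chk3_r69) chk3_r70) chk3_r71) chk3_r72) chk3_r73) chk3_r74) chk3_r75

theorem chk3_upTo95 : ∀ j, j < 95 → rowB lit3 j = true :=
  rows_step (rows_step (rows_step (rows_step (rows_step (rows_step (rows_step (rows_step (rows_step (rows_step (rows_step (rows_step (rows_step (rows_step (rows_step (rows_step (rows_step (rows_step (rows_step chk3_upTo76 chk3_r76) chk3_r77) chk3_r78) chk3_r79) chk3_r80) chk3_r81) chk3_r82) chk3_r83) chk3_r84) chk3_r85) chk3_r86) chk3_r87) chk3_r88) chk3_r89) chk3_r90) chk3_r91) chk3_r92) chk3_r93) chk3_r94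

theorem chk3_upTo114 : ∀ j, j < 114 → rowB lit3 j = true :=
  rows_step (rows_step (rows_step (rows_step (rows_step (rows_step (rows_step (rows_step (rows_step (rows_step (rows_step (rows_step (rows_step (rows_step (rows_step (rows_step (rows_step (rows_step (rows_step chk3_upTo95 chk3_r95) chk3_r96) chk3_r97) chk3_r98) chk3_r99) chk3_r100) chk3_r101) chk3_r102) chk3_r103) chk3_r104) chk3_r105) chk3_r106) chk3_r107) chk3_r108) chk3_r109) chk3_r110) chk3_r111) chk3_r112) chk3_r113

theorem chk3_upTo133 : ∀ j, j < 133 → rowB lit3 j = true :=
  rows_step (rows_step (rows_step (rows_step (rows_step (rows_step (rows_step (rows_step (rows_step (rows_step (rows_step (rows_step (rows_step (rows_step (rows_step (rows_step (rows_step (rows_step (rows_step chk3_upTo114 chk3_r114) chk3_r115) chk3_r116) chk3_r117) chk3_r118) chk3_r119) chk3_r120) chk3_r121) chk3_r122) chk3_r123) chk3_r124) chk3_r125) chk3_r126) chk3_r127) chk3_r128) chk3_r129) chk3_r130) chk3_r131) chk3_r132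

theorem chk3 : id133.map (rowW mask133 m133 (chkW 3)) = id133 := by
  rw [chk3_word]
  exact map_of_rows chk3_upTo133

end Cfsg.Agent.HNRec.Amalgam
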