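import Cfsg.Agent.HNRec.Amalgam.Words

/-! Generated: kernel checks of one word, a row per theorem (the kernel caches terms by the low bits of
literals, so large single checks are quadratic). -/

set_option Elab.async false
set_option maxRecDepth 100000

namespace Cfsg.Agent.HNRec.Amalgam

open Cfsg.Agent.HNSub

/-- The word, written out. -/
def lit4 : List Nat := [3, 3, 3, 2, 3, 0, 2, 0, 5, 4, 6, 0, 4, 0, 1, 6, 5, 4, 3, 3, 3, 2, 3, 0, 2, 0, 1, 2, 5, 4, 0, 4, 2, 0, 1, 4]

theorem chk4_word : chkW 4 = lit4 := by decide +kernel

theorem chk4_r0 : rowB lit4 0 = true := by decide +kernel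

theorem chk4_r1 : rowB lit4 1 = true := by decide +kernel

theorem chk4_r2 : rowB lit4 2 = true := by decide +kernel

theorem chk4_r3 : rowB lit4 3 = true := by decide +kernel

theorem chk4_r4 : rowB lit4 4 = true := by decide +kernel

theorem chk4_r5 : rowB lit4 5 = true := by decide +kernel

theorem chk4_r6 : rowB lit4 6 = true := by decide +kernel

theorem chk4_r7 : rowB lit4 7 = true := by decide +kernel

theorem chk4_r8 : rowB lit4 8 = true := by decide +kernel

theorem chk4_r9 : rowB lit4 9 = true := by decide +kernel

theorem chk4_r10 : rowB lit4 10 = true := by decide +kernel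

theorem chk4_r11 : rowB lit4 11 = true := by decide +kernel

theorem chk4_r12 : rowB lit4 12 = true := by decide +kernel

theorem chk4_r13 : rowB lit4 13 = true := by decide +kernel

theorem chk4_r14 : rowB lit4 14 = true := by decide +kernel

theorem chk4_r15 : rowB lit4 15 = true := by decide +kernel

theorem chk4_r16 : rowB lit4 16 = true := by decide +kernel

theorem chk4_r17 : rowB lit4 17 = true := by decide +kernel

theorem chk4_r18 : rowB lit4 18 = true := by decide +kernel

theorem chk4_r19 : rowB lit4 19 = true := by decide +kernel

theorem chk4_r20 : rowB lit4 20 = true := by decide +kernel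

theorem chk4_r21 : rowB lit4 21 = true := by decide +kernel

theorem chk4_r22 : rowB lit4 22 = true := by decide +kernel

theorem chk4_r23 : rowB lit4 23 = true := by decide +kernel

theorem chk4_r24 : rowB lit4 24 = true := by decide +kernel

theorem chk4_r25 : rowB lit4 25 = true := by decide +kernel

theorem chk4_r26 : rowB lit4 26 = true := by decide +kernel

theorem chk4_r27 : rowB lit4 27 = true := by decide +kernel

theorem chk4_r28 : rowB lit4 28 = true := by decide +kernel

theorem chk4_r29 : rowB lit4 29 = true := by decide +kernel

theorem chk4_r30 : rowB lit4 30 = true := by decide +kernel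

theorem chk4_r31 : rowB lit4 31 = true := by decide +kernel

theorem chk4_r32 : rowB lit4 32 = true := by decide +kernel

theorem chk4_r33 : rowB lit4 33 = true := by decide +kernel

theorem chk4_r34 : rowB lit4 34 = true := by decide +kernel

theorem chk4_r35 : rowB lit4 35 = true := by decide +kernel

theorem chk4_r36 : rowB lit4 36 = true := by decide +kernel

theorem chk4_r37 : rowB lit4 37 = true := by decide +kernel

theorem chk4_r38 : rowB lit4 38 = true := by decide +kernel

theorem chk4_r39 : rowB lit4 39 = true := by decide +kernel

theorem chk4_r40 : rowB lit4 40 = true := by decide +kernel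

theorem chk4_r41 : rowB lit4 41 = true := by decide +kernel

theorem chk4_r42 : rowB lit4 42 = true := by decide +kernel

theorem chk4_r43 : rowB lit4 43 = true := by decide +kernel

theorem chk4_r44 : rowB lit4 44 = true := by decide +kernel

theorem chk4_r45 : rowB lit4 45 = true := by decide +kernel

theorem chk4_r46 : rowB lit4 46 = true := by decide +kernel

theorem chk4_r47 : rowB lit4 47 = true := by decide +kernel

theorem chk4_r48 : rowB lit4 48 = true := by decide +kernel

theorem chk4_r49 : rowB lit4 49 = true := by decide +kernel

theorem chk4_r50 : rowB lit4 50 = true := by decide +kernel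

theorem chk4_r51 : rowB lit4 51 = true := by decide +kernel

theorem chk4_r52 : rowB lit4 52 = true := by decide +kernel

theorem chk4_r53 : rowB lit4 53 = true := by decide +kernel

theorem chk4_r54 : rowB lit4 54 = true := by decide +kernel

theorem chk4_r55 : rowB lit4 55 = true := by decide +kernel

theorem chk4_r56 : rowB lit4 56 = true := by decide +kernel

theorem chk4_r57 : rowB lit4 57 = true := by decide +kernel

theorem chk4_r58 : rowB lit4 58 = true := by decide +kernel

theorem chk4_r59 : rowB lit4 59 = true := by decide +kernel

theorem chk4_r60 : rowB lit4 60 = true := by decide +kernel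

theorem chk4_r61 : rowB lit4 61 = true := by decide +kernel

theorem chk4_r62 : rowB lit4 62 = true := by decide +kernel

theorem chk4_r63 : rowB lit4 63 = true := by decide +kernel

theorem chk4_r64 : rowB lit4 64 = true := by decide +kernel

theorem chk4_r65 : rowB lit4 65 = true := by decide +kernel

theorem chk4_r66 : rowB lit4 66 = true := by decide +kernel

theorem chk4_r67 : rowB lit4 67 = true := by decide +kernel

theorem chk4_r68 : rowB lit4 68 = true := by decide +kernel

theorem chk4_r69 : rowB lit4 69 = true := by decide +kernel

theorem chk4_r70 : rowB lit4 70 = true := by decide +kernel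

theorem chk4_r71 : rowB lit4 71 = true := by decide +kernel

theorem chk4_r72 : rowB lit4 72 = true := by decide +kernel

theorem chk4_r73 : rowB lit4 73 = true := by decide +kernel

theorem chk4_r74 : rowB lit4 74 = true := by decide +kernel

theorem chk4_r75 : rowB lit4 75 = true := by decide +kernel

theorem chk4_r76 : rowB lit4 76 = true := by decide +kernel

theorem chk4_r77 : rowB lit4 77 = true := by decide +kernel

theorem chk4_r78 : rowB lit4 78 = true := by decide +kernel

theorem chk4_r79 : rowB lit4 79 = true := by decide +kernel

theorem chk4_r80 : rowB lit4 80 = true := by decide +kernel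

theorem chk4_r81 : rowB lit4 81 = true := by decide +kernel

theorem chk4_r82 : rowB lit4 82 = true := by decide +kernel

theorem chk4_r83 : rowB lit4 83 = true := by decide +kernel

theorem chk4_r84 : rowB lit4 84 = true := by decide +kernel

theorem chk4_r85 : rowB lit4 85 = true := by decide +kernel

theorem chk4_r86 : rowB lit4 86 = true := by decide +kernel

theorem chk4_r87 : rowB lit4 87 = true := by decide +kernel

theorem chk4_r88 : rowB lit4 88 = true := by decide +kernel

theorem chk4_r89 : rowB lit4 89 = true := by decide +kernel

theorem chk4_r90 : rowB lit4 90 = true := by decide +kernel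

theorem chk4_r91 : rowB lit4 91 = true := by decide +kernel

theorem chk4_r92 : rowB lit4 92 = true := by decide +kernel

theorem chk4_r93 : rowB lit4 93 = true := by decide +kernel

theorem chk4_r94 : rowB lit4 94 = true := by decide +kernel

theorem chk4_r95 : rowB lit4 95 = true := by decide +kernel

theorem chk4_r96 : rowB lit4 96 = true := by decide +kernel

theorem chk4_r97 : rowB lit4 97 = true := by decide +kernel

theorem chk4_r98 : rowB lit4 98 = true := by decide +kernel

theorem chk4_r99 : rowB lit4 99 = true := by decide +kernel

theorem chk4_r100 : rowB lit4 100 = true := by decide +kernel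

theorem chk4_r101 : rowB lit4 101 = true := by decide +kernel

theorem chk4_r102 : rowB lit4 102 = true := by decide +kernel

theorem chk4_r103 : rowB lit4 103 = true := by decide +kernel

theorem chk4_r104 : rowB lit4 104 = true := by decide +kernel

theorem chk4_r105 : rowB lit4 105 = true := by decide +kernel

theorem chk4_r106 : rowB lit4 106 = true := by decide +kernel

theorem chk4_r107 : rowB lit4 107 = true := by decide +kernel

theorem chk4_r108 : rowB lit4 108 = true := by decide +kernel

theorem chk4_r109 : rowB lit4 109 = true := by decide +kernel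

theorem chk4_r110 : rowB lit4 110 = true := by decide +kernel

theorem chk4_r111 : rowB lit4 111 = true := by decide +kernel

theorem chk4_r112 : rowB lit4 112 = true := by decide +kernel

theorem chk4_r113 : rowB lit4 113 = true := by decide +kernel

theorem chk4_r114 : rowB lit4 114 = true := by decide +kernel

theorem chk4_r115 : rowB lit4 115 = true := by decide +kernel

theorem chk4_r116 : rowB lit4 116 = true := by decide +kernel

theorem chk4_r117 : rowB lit4 117 = true := by decide +kernel

theorem chk4_r118 : rowB lit4 118 = true := by decide +kernel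

theorem chk4_r119 : rowB lit4 119 = true := by decide +kernel

theorem chk4_r120 : rowB lit4 120 = true := by decide +kernel

theorem chk4_r121 : rowB lit4 121 = true := by decide +kernel

theorem chk4_r122 : rowB lit4 122 = true := by decide +kernel

theorem chk4_r123 : rowB lit4 123 = true := by decide +kernel

theorem chk4_r124 : rowB lit4 124 = true := by decide +kernel

theorem chk4_r125 : rowB lit4 125 = true := by decide +kernel

theorem chk4_r126 : rowB lit4 126 = true := by decide +kernel

theorem chk4_r127 : rowB lit4 127 = true := by decide +kernel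

theorem chk4_r128 : rowB lit4 128 = true := by decide +kernel

theorem chk4_r129 : rowB lit4 129 = true := by decide +kernel

theorem chk4_r130 : rowB lit4 130 = true := by decide +kernel

theorem chk4_r131 : rowB lit4 131 = true := by decide +kernel

theorem chk4_r132 : rowB lit4 132 = true := by decide +kernel

theorem chk4_upTo0 : ∀ j, j < 0 → rowB lit4 j = true := rows_zero

theorem chk4_upTo19 : ∀ j, j < 19 → rowB lit4 j = true :=
  rows_step (rows_step (rows_step (rows_step (rows_step (rows_step (rows_step (rows_step (rows_step (rows_step (rows_step (rows_step (rows_step (rows_step (rows_step (rows_step (rows_step (rows_step (rows_step chk4_upTo0 chk4_r0) chk4_r1) chk4_r2) chk4_r3) chk4_r4) chk4_r5) chk4_r6) chk4_r7) chk4_r8) chk4_r9) chk4_r10) chk4_r11) chk4_r12) chk4_r13) chk4_r14) chk4_r15) chk4_r16) chk4_r17) chk4_r18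

theorem chk4_upTo38 : ∀ j, j < 38 → rowB lit4 j = true :=
  rows_step (rows_step (rows_step (rows_step (rows_step (rows_step (rows_step (rows_step (rows_step (rows_step (rows_step (rows_step (rows_step (rows_step (rows_step (rows_step (rows_step (rows_step (rows_step chk4_upTo19 chk4_r19) chk4_r20) chk4_r21) chk4_r22) chk4_r23) chk4_r24) chk4_r25) chk4_r26) chk4_r27) chk4_r28) chk4_r29) chk4_r30) chk4_r31) chk4_r32) chk4_r33) chk4_r34) chk4_r35) chk4_r36) chk4_r37

theorem chk4_upTo57 : ∀ j, j < 57 → rowB lit4 j = true :=
  rows_step (rows_step (rows_step (rows_step (rows_step (rows_step (rows_step (rows_step (rows_step (rows_step (rows_step (rows_step (rows_step (rows_step (rows_step (rows_step (rows_step (rows_step (rows_step chk4_upTo38 chk4_r38) chk4_r39) chk4_r40) chk4_r41) chk4_r42) chk4_r43) chk4_r44) chk4_r45) chk4_r46) chk4_r47) chk4_r48) chk4_r49) chk4_r50) chk4_r51) chk4_r52) chk4_r53) chk4_r54) chk4_r55) chk4_r56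

theorem chk4_upTo76 : ∀ j, j < 76 → rowB lit4 j = true :=
  rows_step (rows_step (rows_step (rows_step (rows_step (rows_step (rows_step (rows_step (rows_step (rows_step (rows_step (rows_step (rows_step (rows_step (rows_step (rows_step (rows_step (rows_step (rows_step chk4_upTo57 chk4_r57) chk4_r58) chk4_r59) chk4_r60) chk4_r61) chk4_r62) chk4_r63) chk4_r64) chk4_r65) chk4_r66) chk4_r67) chk4_r68) chk4_r69) chk4_r70) chk4_r71) chk4_r72) chk4_r73) chk4_r74) chk4_r75

theorem chk4_upTo95 : ∀ j, j < 95 → rowB lit4 j = true :=
  rows_step (rows_step (rows_step (rows_step (rows_step (rows_step (rows_step (rows_step (rows_step (rows_step (rows_step (rows_step (rows_step (rows_step (rows_step (rows_step (rows_step (rows_step (rows_step chk4_upTo76 chk4_r76) chk4_r77) chk4_r78) chk4_r79) chk4_r80) chk4_r81) chk4_r82) chk4_r83) chk4_r84) chk4_r85) chk4_r86) chk4_r87) chk4_r88) chk4_r89) chk4_r90) chk4_r91) chk4_r92) chk4_r93) chk4_r94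

theorem chk4_upTo114 : ∀ j, j < 114 → rowB lit4 j = true :=
  rows_step (rows_step (rows_step (rows_step (rows_step (rows_step (rows_step (rows_step (rows_step (rows_step (rows_step (rows_step (rows_step (rows_step (rows_step (rows_step (rows_step (rows_step (rows_step chk4_upTo95 chk4_r95) chk4_r96) chk4_r97) chk4_r98) chk4_r99) chk4_r100) chk4_r101) chk4_r102) chk4_r103) chk4_r104) chk4_r105) chk4_r106) chk4_r107) chk4_r108) chk4_r109) chk4_r110) chk4_r111) chk4_r112) chk4_r113

theorem chk4_upTo133 : ∀ j, j < 133 → rowB lit4 j = true :=
  rows_step (rows_step (rows_step (rows_step (rows_step (rows_step (rows_step (rows_step (rows_step (rows_step (rows_step (rows_step (rows_step (rows_step (rows_step (rows_step (rows_step (rows_step (rows_step chk4_upTo114 chk4_r114) chk4_r115) chk4_r116) chk4_r117) chk4_r118) chk4_r119) chk4_r120) chk4_r121) chk4_r122) chk4_r123) chk4_r124) chk4_r125) chk4_r126) chk4_r127) chk4_r128) chk4_r129) chk4_r130) chk4_r131) chk4_r132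

theorem chk4 : id133.map (rowW mask133 m133 (chkW 4)) = id133 := by
  rw [chk4_word]
  exact map_of_rows chk4_upTo133

end Cfsg.Agent.HNRec.Amalgam
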