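import Cfsg.Agent.HNRec.Amalgam.Words

/-! Generated: kernel checks of one word, a row per theorem (the kernel caches terms by the low bits of
literals, so large single checks are quadratic). -/

set_option Elab.async false
set_option maxRecDepth 100000

namespace Cfsg.Agent.HNRec.Amalgam

open Cfsg.Agent.HNSub

/-- The word, written out. -/
def lit5 : List Nat := [3, 3, 3, 2, 3, 0, 2, 0, 5, 4, 4, 0, 4, 0, 1, 4, 5, 4, 3, 3, 3, 2, 3, 0, 2, 0, 1, 0, 5, 4, 0, 4, 0, 0, 1, 4, 4, 4, 6]

theorem chk5_word : chkW 5 = lit5 := by decide +kernel

theorem chk5_r0 : rowB lit5 0 = true := by decide +kernel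

theorem chk5_r1 : rowB lit5 1 = true := by decide +kernel

theorem chk5_r2 : rowB lit5 2 = true := by decide +kernel

theorem chk5_r3 : rowB lit5 3 = true := by decide +kernel

theorem chk5_r4 : rowB lit5 4 = true := by decide +kernel

theorem chk5_r5 : rowB lit5 5 = true := by decide +kernel

theorem chk5_r6 : rowB lit5 6 = true := by decide +kernel

theorem chk5_r7 : rowB lit5 7 = true := by decide +kernel

theorem chk5_r8 : rowB lit5 8 = true := by decide +kernel

theorem chk5_r9 : rowB lit5 9 = true := by decide +kernel

theorem chk5_r10 : rowB lit5 10 = true := by decide +kernel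

theorem chk5_r11 : rowB lit5 11 = true := by decide +kernel

theorem chk5_r12 : rowB lit5 12 = true := by decide +kernel

theorem chk5_r13 : rowB lit5 13 = true := by decide +kernel

theorem chk5_r14 : rowB lit5 14 = true := by decide +kernel

theorem chk5_r15 : rowB lit5 15 = true := by decide +kernel

theorem chk5_r16 : rowB lit5 16 = true := by decide +kernel

theorem chk5_r17 : rowB lit5 17 = true := by decide +kernel

theorem chk5_r18 : rowB lit5 18 = true := by decide +kernel

theorem chk5_r19 : rowB lit5 19 = true := by decide +kernel

theorem chk5_r20 : rowB lit5 20 = true := by decide +kernel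

theorem chk5_r21 : rowB lit5 21 = true := by decide +kernel

theorem chk5_r22 : rowB lit5 22 = true := by decide +kernel

theorem chk5_r23 : rowB lit5 23 = true := by decide +kernel

theorem chk5_r24 : rowB lit5 24 = true := by decide +kernel

theorem chk5_r25 : rowB lit5 25 = true := by decide +kernel

theorem chk5_r26 : rowB lit5 26 = true := by decide +kernel

theorem chk5_r27 : rowB lit5 27 = true := by decide +kernel

theorem chk5_r28 : rowB lit5 28 = true := by decide +kernel

theorem chk5_r29 : rowB lit5 29 = true := by decide +kernel

theorem chk5_r30 : rowB lit5 30 = true := by decide +kernel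

theorem chk5_r31 : rowB lit5 31 = true := by decide +kernel

theorem chk5_r32 : rowB lit5 32 = true := by decide +kernel

theorem chk5_r33 : rowB lit5 33 = true := by decide +kernel

theorem chk5_r34 : rowB lit5 34 = true := by decide +kernel

theorem chk5_r35 : rowB lit5 35 = true := by decide +kernel

theorem chk5_r36 : rowB lit5 36 = true := by decide +kernel

theorem chk5_r37 : rowB lit5 37 = true := by decide +kernel

theorem chk5_r38 : rowB lit5 38 = true := by decide +kernel

theorem chk5_r39 : rowB lit5 39 = true := by decide +kernel

theorem chk5_r40 : rowB lit5 40 = true := by decide +kernel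

theorem chk5_r41 : rowB lit5 41 = true := by decide +kernel

theorem chk5_r42 : rowB lit5 42 = true := by decide +kernel

theorem chk5_r43 : rowB lit5 43 = true := by decide +kernel

theorem chk5_r44 : rowB lit5 44 = true := by decide +kernel

theorem chk5_r45 : rowB lit5 45 = true := by decide +kernel

theorem chk5_r46 : rowB lit5 46 = true := by decide +kernel

theorem chk5_r47 : rowB lit5 47 = true := by decide +kernel

theorem chk5_r48 : rowB lit5 48 = true := by decide +kernel

theorem chk5_r49 : rowB lit5 49 = true := by decide +kernel

theorem chk5_r50 : rowB lit5 50 = true := by decide +kernel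

theorem chk5_r51 : rowB lit5 51 = true := by decide +kernel

theorem chk5_r52 : rowB lit5 52 = true := by decide +kernel

theorem chk5_r53 : rowB lit5 53 = true := by decide +kernel

theorem chk5_r54 : rowB lit5 54 = true := by decide +kernel

theorem chk5_r55 : rowB lit5 55 = true := by decide +kernel

theorem chk5_r56 : rowB lit5 56 = true := by decide +kernel

theorem chk5_r57 : rowB lit5 57 = true := by decide +kernel

theorem chk5_r58 : rowB lit5 58 = true := by decide +kernel

theorem chk5_r59 : rowB lit5 59 = true := by decide +kernel

theorem chk5_r60 : rowB lit5 60 = true := by decide +kernel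

theorem chk5_r61 : rowB lit5 61 = true := by decide +kernel

theorem chk5_r62 : rowB lit5 62 = true := by decide +kernel

theorem chk5_r63 : rowB lit5 63 = true := by decide +kernel

theorem chk5_r64 : rowB lit5 64 = true := by decide +kernel

theorem chk5_r65 : rowB lit5 65 = true := by decide +kernel

theorem chk5_r66 : rowB lit5 66 = true := by decide +kernel

theorem chk5_r67 : rowB lit5 67 = true := by decide +kernel

theorem chk5_r68 : rowB lit5 68 = true := by decide +kernel

theorem chk5_r69 : rowB lit5 69 = true := by decide +kernel

theorem chk5_r70 : rowB lit5 70 = true := by decide +kernel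

theorem chk5_r71 : rowB lit5 71 = true := by decide +kernel

theorem chk5_r72 : rowB lit5 72 = true := by decide +kernel

theorem chk5_r73 : rowB lit5 73 = true := by decide +kernel

theorem chk5_r74 : rowB lit5 74 = true := by decide +kernel

theorem chk5_r75 : rowB lit5 75 = true := by decide +kernel

theorem chk5_r76 : rowB lit5 76 = true := by decide +kernel

theorem chk5_r77 : rowB lit5 77 = true := by decide +kernel

theorem chk5_r78 : rowB lit5 78 = true := by decide +kernel

theorem chk5_r79 : rowB lit5 79 = true := by decide +kernel

theorem chk5_r80 : rowB lit5 80 = true := by decide +kernel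

theorem chk5_r81 : rowB lit5 81 = true := by decide +kernel

theorem chk5_r82 : rowB lit5 82 = true := by decide +kernel

theorem chk5_r83 : rowB lit5 83 = true := by decide +kernel

theorem chk5_r84 : rowB lit5 84 = true := by decide +kernel

theorem chk5_r85 : rowB lit5 85 = true := by decide +kernel

theorem chk5_r86 : rowB lit5 86 = true := by decide +kernel

theorem chk5_r87 : rowB lit5 87 = true := by decide +kernel

theorem chk5_r88 : rowB lit5 88 = true := by decide +kernel

theorem chk5_r89 : rowB lit5 89 = true := by decide +kernel

theorem chk5_r90 : rowB lit5 90 = true := by decide +kernel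

theorem chk5_r91 : rowB lit5 91 = true := by decide +kernel

theorem chk5_r92 : rowB lit5 92 = true := by decide +kernel

theorem chk5_r93 : rowB lit5 93 = true := by decide +kernel

theorem chk5_r94 : rowB lit5 94 = true := by decide +kernel

theorem chk5_r95 : rowB lit5 95 = true := by decide +kernel

theorem chk5_r96 : rowB lit5 96 = true := by decide +kernel

theorem chk5_r97 : rowB lit5 97 = true := by decide +kernel

theorem chk5_r98 : rowB lit5 98 = true := by decide +kernel

theorem chk5_r99 : rowB lit5 99 = true := by decide +kernel

theorem chk5_r100 : rowB lit5 100 = true := by decide +kernel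

theorem chk5_r101 : rowB lit5 101 = true := by decide +kernel

theorem chk5_r102 : rowB lit5 102 = true := by decide +kernel

theorem chk5_r103 : rowB lit5 103 = true := by decide +kernel

theorem chk5_r104 : rowB lit5 104 = true := by decide +kernel

theorem chk5_r105 : rowB lit5 105 = true := by decide +kernel

theorem chk5_r106 : rowB lit5 106 = true := by decide +kernel

theorem chk5_r107 : rowB lit5 107 = true := by decide +kernel

theorem chk5_r108 : rowB lit5 108 = true := by decide +kernel

theorem chk5_r109 : rowB lit5 109 = true := by decide +kernel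

theorem chk5_r110 : rowB lit5 110 = true := by decide +kernel

theorem chk5_r111 : rowB lit5 111 = true := by decide +kernel

theorem chk5_r112 : rowB lit5 112 = true := by decide +kernel

theorem chk5_r113 : rowB lit5 113 = true := by decide +kernel

theorem chk5_r114 : rowB lit5 114 = true := by decide +kernel

theorem chk5_r115 : rowB lit5 115 = true := by decide +kernel

theorem chk5_r116 : rowB lit5 116 = true := by decide +kernel

theorem chk5_r117 : rowB lit5 117 = true := by decide +kernel

theorem chk5_r118 : rowB lit5 118 = true := by decide +kernel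

theorem chk5_r119 : rowB lit5 119 = true := by decide +kernel

theorem chk5_r120 : rowB lit5 120 = true := by decide +kernel

theorem chk5_r121 : rowB lit5 121 = true := by decide +kernel

theorem chk5_r122 : rowB lit5 122 = true := by decide +kernel

theorem chk5_r123 : rowB lit5 123 = true := by decide +kernel

theorem chk5_r124 : rowB lit5 124 = true := by decide +kernel

theorem chk5_r125 : rowB lit5 125 = true := by decide +kernel

theorem chk5_r126 : rowB lit5 126 = true := by decide +kernel

theorem chk5_r127 : rowB lit5 127 = true := by decide +kernel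

theorem chk5_r128 : rowB lit5 128 = true := by decide +kernel

theorem chk5_r129 : rowB lit5 129 = true := by decide +kernel

theorem chk5_r130 : rowB lit5 130 = true := by decide +kernel

theorem chk5_r131 : rowB lit5 131 = true := by decide +kernel

theorem chk5_r132 : rowB lit5 132 = true := by decide +kernel

theorem chk5_upTo0 : ∀ j, j < 0 → rowB lit5 j = true := rows_zero

theorem chk5_upTo19 : ∀ j, j < 19 → rowB lit5 j = true :=
  rows_step (rows_step (rows_step (rows_step (rows_step (rows_step (rows_step (rows_step (rows_step (rows_step (rows_step (rows_step (rows_step (rows_step (rows_step (rows_step (rows_step (rows_step (rows_step chk5_upTo0 chk5_r0) chk5_r1) chk5_r2) chk5_r3) chk5_r4) chk5_r5) chk5_r6) chk5_r7) chk5_r8) chk5_r9) chk5_r10) chk5_r11) chk5_r12) chk5_r13) chk5_r14) chk5_r15) chk5_r16) chk5_r17) chk5_r18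

theorem chk5_upTo38 : ∀ j, j < 38 → rowB lit5 j = true :=
  rows_step (rows_step (rows_step (rows_step (rows_step (rows_step (rows_step (rows_step (rows_step (rows_step (rows_step (rows_step (rows_step (rows_step (rows_step (rows_step (rows_step (rows_step (rows_step chk5_upTo19 chk5_r19) chk5_r20) chk5_r21) chk5_r22) chk5_r23) chk5_r24) chk5_r25) chk5_r26) chk5_r27) chk5_r28) chk5_r29) chk5_r30) chk5_r31) chk5_r32) chk5_r33) chk5_r34) chk5_r35) chk5_r36) chk5_r37

theorem chk5_upTo57 : ∀ j, j < 57 → rowB lit5 j = true :=
  rows_step (rows_step (rows_step (rows_step (rows_step (rows_step (rows_step (rows_step (rows_step (rows_step (rows_step (rows_step (rows_step (rows_step (rows_step (rows_step (rows_step (rows_step (rows_step chk5_upTo38 chk5_r38) chk5_r39) chk5_r40) chk5_r41) chk5_r42) chk5_r43) chk5_r44) chk5_r45) chk5_r46) chk5_r47) chk5_r48) chk5_r49) chk5_r50) chk5_r51) chk5_r52) chk5_r53) chk5_r54) chk5_r55) chk5_r56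

theorem chk5_upTo76 : ∀ j, j < 76 → rowB lit5 j = true :=
  rows_step (rows_step (rows_step (rows_step (rows_step (rows_step (rows_step (rows_step (rows_step (rows_step (rows_step (rows_step (rows_step (rows_step (rows_step (rows_step (rows_step (rows_step (rows_step chk5_upTo57 chk5_r57) chk5_r58) chk5_r59) chk5_r60) chk5_r61) chk5_r62) chk5_r63) chk5_r64) chk5_r65) chk5_r66) chk5_r67) chk5_r68) chk5_r69) chk5_r70) chk5_r71) chk5_r72) chk5_r73) chk5_r74) chk5_r75

theorem chk5_upTo95 : ∀ j, j < 95 → rowB lit5 j = true :=
  rows_step (rows_step (rows_step (rows_step (rows_step (rows_step (rows_step (rows_step (rows_step (rows_step (rows_step (rows_step (rows_step (rows_step (rows_step (rows_step (rows_step (rows_step (rows_step chk5_upTo76 chk5_r76) chk5_r77) chk5_r78) chk5_r79) chk5_r80) chk5_r81) chk5_r82) chk5_r83) chk5_r84) chk5_r85) chk5_r86) chk5_r87) chk5_r88) chk5_r89) chk5_r90) chk5_r91) chk5_r92) chk5_r93) chk5_r94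

theorem chk5_upTo114 : ∀ j, j < 114 → rowB lit5 j = true :=
  rows_step (rows_step (rows_step (rows_step (rows_step (rows_step (rows_step (rows_step (rows_step (rows_step (rows_step (rows_step (rows_step (rows_step (rows_step (rows_step (rows_step (rows_step (rows_step chk5_upTo95 chk5_r95) chk5_r96) chk5_r97) chk5_r98) chk5_r99) chk5_r100) chk5_r101) chk5_r102) chk5_r103) chk5_r104) chk5_r105) chk5_r106) chk5_r107) chk5_r108) chk5_r109) chk5_r110) chk5_r111) chk5_r112) chk5_r113

theorem chk5_upTo133 : ∀ j, j < 133 → rowB lit5 j = true :=
  rows_step (rows_step (rows_step (rows_step (rows_step (rows_step (rows_step (rows_step (rows_step (rows_step (rows_step (rows_step (rows_step (rows_step (rows_step (rows_step (rows_step (rows_step (rows_step chk5_upTo114 chk5_r114) chk5_r115) chk5_r116) chk5_r117) chk5_r118) chk5_r119) chk5_r120) chk5_r121) chk5_r122) chk5_r123) chk5_r124) chk5_r125) chk5_r126) chk5_r127) chk5_r128) chk5_r129) chk5_r130) chk5_r131) chk5_r132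

theorem chk5 : id133.map (rowW mask133 m133 (chkW 5)) = id133 := by
  rw [chk5_word]
  exact map_of_rows chk5_upTo133

end Cfsg.Agent.HNRec.Amalgam
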