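import Cfsg.Agent.HNRec.Amalgam.Words

/-! Generated: kernel checks of one word, a row per theorem (the kernel caches terms by the low bits of
literals, so large single checks are quadratic). -/

set_option Elab.async false
set_option maxRecDepth 100000

namespace Cfsg.Agent.HNRec.Amalgam

open Cfsg.Agent.HNSub

/-- The word, written out. -/
def lit6 : List Nat := [3, 3, 3, 2, 3, 0, 2, 5, 4, 5, 2, 0, 2, 4, 0, 5, 4, 5, 4, 3, 3, 3, 2, 3, 0, 2, 0, 1, 2, 5, 4, 0, 4, 2, 0, 1, 4, 0, 1, 0, 1, 4, 0, 6, 4, 6, 1, 0, 1, 0, 1, 2, 5, 4, 0, 4, 2, 0, 1, 4, 0, 1, 2, 5, 4, 0, 4, 2, 0, 1, 4, 0, 1, 2, 5, 4, 0, 4, 2, 0, 1, 4]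

theorem chk6_word : chkW 6 = lit6 := by decide +kernel

theorem chk6_r0 : rowB lit6 0 = true := by decide +kernel

theorem chk6_r1 : rowB lit6 1 = true := by decide +kernel

theorem chk6_r2 : rowB lit6 2 = true := by decide +kernel

theorem chk6_r3 : rowB lit6 3 = true := by decide +kernel

theorem chk6_r4 : rowB lit6 4 = true := by decide +kernel

theorem chk6_r5 : rowB lit6 5 = true := by decide +kernel

theorem chk6_r6 : rowB lit6 6 = true := by decide +kernel

theorem chk6_r7 : rowB lit6 7 = true := by decide +kernel

theorem chk6_r8 : rowB lit6 8 = true := by decide +kernel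

theorem chk6_r9 : rowB lit6 9 = true := by decide +kernel

theorem chk6_r10 : rowB lit6 10 = true := by decide +kernel

theorem chk6_r11 : rowB lit6 11 = true := by decide +kernel

theorem chk6_r12 : rowB lit6 12 = true := by decide +kernel

theorem chk6_r13 : rowB lit6 13 = true := by decide +kernel

theorem chk6_r14 : rowB lit6 14 = true := by decide +kernel

theorem chk6_r15 : rowB lit6 15 = true := by decide +kernel

theorem chk6_r16 : rowB lit6 16 = true := by decide +kernel

theorem chk6_r17 : rowB lit6 17 = true := by decide +kernel

theorem chk6_r18 : rowB lit6 18 = true := by decide +kernel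

theorem chk6_r19 : rowB lit6 19 = true := by decide +kernel

theorem chk6_r20 : rowB lit6 20 = true := by decide +kernel

theorem chk6_r21 : rowB lit6 21 = true := by decide +kernel

theorem chk6_r22 : rowB lit6 22 = true := by decide +kernel

theorem chk6_r23 : rowB lit6 23 = true := by decide +kernel

theorem chk6_r24 : rowB lit6 24 = true := by decide +kernel

theorem chk6_r25 : rowB lit6 25 = true := by decide +kernel

theorem chk6_r26 : rowB lit6 26 = true := by decide +kernel

theorem chk6_r27 : rowB lit6 27 = true := by decide +kernel

theorem chk6_r28 : rowB lit6 28 = true := by decide +kernel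

theorem chk6_r29 : rowB lit6 29 = true := by decide +kernel

theorem chk6_r30 : rowB lit6 30 = true := by decide +kernel

theorem chk6_r31 : rowB lit6 31 = true := by decide +kernel

theorem chk6_r32 : rowB lit6 32 = true := by decide +kernel

theorem chk6_r33 : rowB lit6 33 = true := by decide +kernel

theorem chk6_r34 : rowB lit6 34 = true := by decide +kernel

theorem chk6_r35 : rowB lit6 35 = true := by decide +kernel

theorem chk6_r36 : rowB lit6 36 = true := by decide +kernel

theorem chk6_r37 : rowB lit6 37 = true := by decide +kernel

theorem chk6_r38 : rowB lit6 38 = true := by decide +kernel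

theorem chk6_r39 : rowB lit6 39 = true := by decide +kernel

theorem chk6_r40 : rowB lit6 40 = true := by decide +kernel

theorem chk6_r41 : rowB lit6 41 = true := by decide +kernel

theorem chk6_r42 : rowB lit6 42 = true := by decide +kernel

theorem chk6_r43 : rowB lit6 43 = true := by decide +kernel

theorem chk6_r44 : rowB lit6 44 = true := by decide +kernel

theorem chk6_r45 : rowB lit6 45 = true := by decide +kernel

theorem chk6_r46 : rowB lit6 46 = true := by decide +kernel

theorem chk6_r47 : rowB lit6 47 = true := by decide +kernel

theorem chk6_r48 : rowB lit6 48 = true := by decide +kernel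

theorem chk6_r49 : rowB lit6 49 = true := by decide +kernel

theorem chk6_r50 : rowB lit6 50 = true := by decide +kernel

theorem chk6_r51 : rowB lit6 51 = true := by decide +kernel

theorem chk6_r52 : rowB lit6 52 = true := by decide +kernel

theorem chk6_r53 : rowB lit6 53 = true := by decide +kernel

theorem chk6_r54 : rowB lit6 54 = true := by decide +kernel

theorem chk6_r55 : rowB lit6 55 = true := by decide +kernel

theorem chk6_r56 : rowB lit6 56 = true := by decide +kernel

theorem chk6_r57 : rowB lit6 57 = true := by decide +kernel

theorem chk6_r58 : rowB lit6 58 = true := by decide +kernel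

theorem chk6_r59 : rowB lit6 59 = true := by decide +kernel

theorem chk6_r60 : rowB lit6 60 = true := by decide +kernel

theorem chk6_r61 : rowB lit6 61 = true := by decide +kernel

theorem chk6_r62 : rowB lit6 62 = true := by decide +kernel

theorem chk6_r63 : rowB lit6 63 = true := by decide +kernel

theorem chk6_r64 : rowB lit6 64 = true := by decide +kernel

theorem chk6_r65 : rowB lit6 65 = true := by decide +kernel

theorem chk6_r66 : rowB lit6 66 = true := by decide +kernel

theorem chk6_r67 : rowB lit6 67 = true := by decide +kernel

theorem chk6_r68 : rowB lit6 68 = true := by decide +kernel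

theorem chk6_r69 : rowB lit6 69 = true := by decide +kernel

theorem chk6_r70 : rowB lit6 70 = true := by decide +kernel

theorem chk6_r71 : rowB lit6 71 = true := by decide +kernel

theorem chk6_r72 : rowB lit6 72 = true := by decide +kernel

theorem chk6_r73 : rowB lit6 73 = true := by decide +kernel

theorem chk6_r74 : rowB lit6 74 = true := by decide +kernel

theorem chk6_r75 : rowB lit6 75 = true := by decide +kernel

theorem chk6_r76 : rowB lit6 76 = true := by decide +kernel

theorem chk6_r77 : rowB lit6 77 = true := by decide +kernel

theorem chk6_r78 : rowB lit6 78 = true := by decide +kernel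

theorem chk6_r79 : rowB lit6 79 = true := by decide +kernel

theorem chk6_r80 : rowB lit6 80 = true := by decide +kernel

theorem chk6_r81 : rowB lit6 81 = true := by decide +kernel

theorem chk6_r82 : rowB lit6 82 = true := by decide +kernel

theorem chk6_r83 : rowB lit6 83 = true := by decide +kernel

theorem chk6_r84 : rowB lit6 84 = true := by decide +kernel

theorem chk6_r85 : rowB lit6 85 = true := by decide +kernel

theorem chk6_r86 : rowB lit6 86 = true := by decide +kernel

theorem chk6_r87 : rowB lit6 87 = true := by decide +kernel

theorem chk6_r88 : rowB lit6 88 = true := by decide +kernel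

theorem chk6_r89 : rowB lit6 89 = true := by decide +kernel

theorem chk6_r90 : rowB lit6 90 = true := by decide +kernel

theorem chk6_r91 : rowB lit6 91 = true := by decide +kernel

theorem chk6_r92 : rowB lit6 92 = true := by decide +kernel

theorem chk6_r93 : rowB lit6 93 = true := by decide +kernel

theorem chk6_r94 : rowB lit6 94 = true := by decide +kernel

theorem chk6_r95 : rowB lit6 95 = true := by decide +kernel

theorem chk6_r96 : rowB lit6 96 = true := by decide +kernel

theorem chk6_r97 : rowB lit6 97 = true := by decide +kernel

theorem chk6_r98 : rowB lit6 98 = true := by decide +kernel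

theorem chk6_r99 : rowB lit6 99 = true := by decide +kernel

theorem chk6_r100 : rowB lit6 100 = true := by decide +kernel

theorem chk6_r101 : rowB lit6 101 = true := by decide +kernel

theorem chk6_r102 : rowB lit6 102 = true := by decide +kernel

theorem chk6_r103 : rowB lit6 103 = true := by decide +kernel

theorem chk6_r104 : rowB lit6 104 = true := by decide +kernel

theorem chk6_r105 : rowB lit6 105 = true := by decide +kernel

theorem chk6_r106 : rowB lit6 106 = true := by decide +kernel

theorem chk6_r107 : rowB lit6 107 = true := by decide +kernel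

theorem chk6_r108 : rowB lit6 108 = true := by decide +kernel

theorem chk6_r109 : rowB lit6 109 = true := by decide +kernel

theorem chk6_r110 : rowB lit6 110 = true := by decide +kernel

theorem chk6_r111 : rowB lit6 111 = true := by decide +kernel

theorem chk6_r112 : rowB lit6 112 = true := by decide +kernel

theorem chk6_r113 : rowB lit6 113 = true := by decide +kernel

theorem chk6_r114 : rowB lit6 114 = true := by decide +kernel

theorem chk6_r115 : rowB lit6 115 = true := by decide +kernel

theorem chk6_r116 : rowB lit6 116 = true := by decide +kernel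

theorem chk6_r117 : rowB lit6 117 = true := by decide +kernel

theorem chk6_r118 : rowB lit6 118 = true := by decide +kernel

theorem chk6_r119 : rowB lit6 119 = true := by decide +kernel

theorem chk6_r120 : rowB lit6 120 = true := by decide +kernel

theorem chk6_r121 : rowB lit6 121 = true := by decide +kernel

theorem chk6_r122 : rowB lit6 122 = true := by decide +kernel

theorem chk6_r123 : rowB lit6 123 = true := by decide +kernel

theorem chk6_r124 : rowB lit6 124 = true := by decide +kernel

theorem chk6_r125 : rowB lit6 125 = true := by decide +kernel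

theorem chk6_r126 : rowB lit6 126 = true := by decide +kernel

theorem chk6_r127 : rowB lit6 127 = true := by decide +kernel

theorem chk6_r128 : rowB lit6 128 = true := by decide +kernel

theorem chk6_r129 : rowB lit6 129 = true := by decide +kernel

theorem chk6_r130 : rowB lit6 130 = true := by decide +kernel

theorem chk6_r131 : rowB lit6 131 = true := by decide +kernel

theorem chk6_r132 : rowB lit6 132 = true := by decide +kernel

theorem chk6_upTo0 : ∀ j, j < 0 → rowB lit6 j = true := rows_zero

theorem chk6_upTo19 : ∀ j, j < 19 → rowB lit6 j = true :=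
  rows_step (rows_step (rows_step (rows_step (rows_step (rows_step (rows_step (rows_step (rows_step (rows_step (rows_step (rows_step (rows_step (rows_step (rows_step (rows_step (rows_step (rows_step (rows_step chk6_upTo0 chk6_r0) chk6_r1) chk6_r2) chk6_r3) chk6_r4) chk6_r5) chk6_r6) chk6_r7) chk6_r8) chk6_r9) chk6_r10) chk6_r11) chk6_r12) chk6_r13) chk6_r14) chk6_r15) chk6_r16) chk6_r17) chk6_r18

theorem chk6_upTo38 : ∀ j, j < 38 → rowB lit6 j = true :=
  rows_step (rows_step (rows_step (rows_step (rows_step (rows_step (rows_step (rows_step (rows_step (rows_step (rows_step (rows_step (rows_step (rows_step (rows_step (rows_step (rows_step (rows_step (rows_step chk6_upTo19 chk6_r19) chk6_r20) chk6_r21) chk6_r22) chk6_r23) chk6_r24) chk6_r25) chk6_r26) chk6_r27) chk6_r28) chk6_r29) chk6_r30) chk6_r31) chk6_r32) chk6_r33) chk6_r34) chk6_r35) chk6_r36) chk6_r37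

theorem chk6_upTo57 : ∀ j, j < 57 → rowB lit6 j = true :=
  rows_step (rows_step (rows_step (rows_step (rows_step (rows_step (rows_step (rows_step (rows_step (rows_step (rows_step (rows_step (rows_step (rows_step (rows_step (rows_step (rows_step (rows_step (rows_step chk6_upTo38 chk6_r38) chk6_r39) chk6_r40) chk6_r41) chk6_r42) chk6_r43) chk6_r44) chk6_r45) chk6_r46) chk6_r47) chk6_r48) chk6_r49) chk6_r50) chk6_r51) chk6_r52) chk6_r53) chk6_r54) chk6_r55) chk6_r56

theorem chk6_upTo76 : ∀ j, j < 76 → rowB lit6 j = true :=
  rows_step (rows_step (rows_step (rows_step (rows_step (rows_step (rows_step (rows_step (rows_step (rows_step (rows_step (rows_step (rows_step (rows_step (rows_step (rows_step (rows_step (rows_step (rows_step chk6_upTo57 chk6_r57) chk6_r58) chk6_r59) chk6_r60) chk6_r61) chk6_r62) chk6_r63) chk6_r64) chk6_r65) chk6_r66) chk6_r67) chk6_r68) chk6_r69) chk6_r70) chk6_r71) chk6_r72) chk6_r73) chk6_r74) chk6_r75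

theorem chk6_upTo95 : ∀ j, j < 95 → rowB lit6 j = true :=
  rows_step (rows_step (rows_step (rows_step (rows_step (rows_step (rows_step (rows_step (rows_step (rows_step (rows_step (rows_step (rows_step (rows_step (rows_step (rows_step (rows_step (rows_step (rows_step chk6_upTo76 chk6_r76) chk6_r77) chk6_r78) chk6_r79) chk6_r80) chk6_r81) chk6_r82) chk6_r83) chk6_r84) chk6_r85) chk6_r86) chk6_r87) chk6_r88) chk6_r89) chk6_r90) chk6_r91) chk6_r92) chk6_r93) chk6_r94

theorem chk6_upTo114 : ∀ j, j < 114 → rowB lit6 j = true :=
  rows_step (rows_step (rows_step (rows_step (rows_step (rows_step (rows_step (rows_step (rows_step (rows_step (rows_step (rows_step (rows_step (rows_step (rows_step (rows_step (rows_step (rows_step (rows_step chk6_upTo95 chk6_r95) chk6_r96) chk6_r97) chk6_r98) chk6_r99) chk6_r100) chk6_r101) chk6_r102) chk6_r103) chk6_r104) chk6_r105) chk6_r106) chk6_r107) chk6_r108) chk6_r109) chk6_r110) chk6_r111) chk6_r112) chk6_r113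

theorem chk6_upTo133 : ∀ j, j < 133 → rowB lit6 j = true :=
  rows_step (rows_step (rows_step (rows_step (rows_step (rows_step (rows_step (rows_step (rows_step (rows_step (rows_step (rows_step (rows_step (rows_step (rows_step (rows_step (rows_step (rows_step (rows_step chk6_upTo114 chk6_r114) chk6_r115) chk6_r116) chk6_r117) chk6_r118) chk6_r119) chk6_r120) chk6_r121) chk6_r122) chk6_r123) chk6_r124) chk6_r125) chk6_r126) chk6_r127) chk6_r128) chk6_r129) chk6_r130) chk6_r131) chk6_r132

theorem chk6 : id133.map (rowW mask133 m133 (chkW 6)) = id133 := by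
  rw [chk6_word]
  exact map_of_rows chk6_upTo133

end Cfsg.Agent.HNRec.Amalgam
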