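import Cfsg.Agent.HNRec.Amalgam.Words

/-! Generated: kernel checks of one word, a row per theorem (the kernel caches terms by the low bits of
literals, so large single checks are quadratic). -/

set_option Elab.async false
set_option maxRecDepth 100000

namespace Cfsg.Agent.HNRec.Amalgam

open Cfsg.Agent.HNSub

/-- The word, written out. -/
def lit7 : List Nat := [3, 3, 3, 2, 3, 0, 2, 0, 3, 3, 3, 2, 3, 0, 2, 4, 3, 3, 3, 2, 3, 0, 2, 4, 6]

theorem chk7_word : chkW 7 = lit7 := by decide +kernel

theorem chk7_r0 : rowB lit7 0 = true := by decide +kernel

theorem chk7_r1 : rowB lit7 1 = true := by decide +kernel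

theorem chk7_r2 : rowB lit7 2 = true := by decide +kernel

theorem chk7_r3 : rowB lit7 3 = true := by decide +kernel

theorem chk7_r4 : rowB lit7 4 = true := by decide +kernel

theorem chk7_r5 : rowB lit7 5 = true := by decide +kernel

theorem chk7_r6 : rowB lit7 6 = true := by decide +kernel

theorem chk7_r7 : rowB lit7 7 = true := by decide +kernel

theorem chk7_r8 : rowB lit7 8 = true := by decide +kernel

theorem chk7_r9 : rowB lit7 9 = true := by decide +kernel

theorem chk7_r10 : rowB lit7 10 = true := by decide +kernel

theorem chk7_r11 : rowB lit7 11 = true := by decide +kernel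

theorem chk7_r12 : rowB lit7 12 = true := by decide +kernel

theorem chk7_r13 : rowB lit7 13 = true := by decide +kernel

theorem chk7_r14 : rowB lit7 14 = true := by decide +kernel

theorem chk7_r15 : rowB lit7 15 = true := by decide +kernel

theorem chk7_r16 : rowB lit7 16 = true := by decide +kernel

theorem chk7_r17 : rowB lit7 17 = true := by decide +kernel

theorem chk7_r18 : rowB lit7 18 = true := by decide +kernel

theorem chk7_r19 : rowB lit7 19 = true := by decide +kernel

theorem chk7_r20 : rowB lit7 20 = true := by decide +kernel

theorem chk7_r21 : rowB lit7 21 = true := by decide +kernel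

theorem chk7_r22 : rowB lit7 22 = true := by decide +kernel

theorem chk7_r23 : rowB lit7 23 = true := by decide +kernel

theorem chk7_r24 : rowB lit7 24 = true := by decide +kernel

theorem chk7_r25 : rowB lit7 25 = true := by decide +kernel

theorem chk7_r26 : rowB lit7 26 = true := by decide +kernel

theorem chk7_r27 : rowB lit7 27 = true := by decide +kernel

theorem chk7_r28 : rowB lit7 28 = true := by decide +kernel

theorem chk7_r29 : rowB lit7 29 = true := by decide +kernel

theorem chk7_r30 : rowB lit7 30 = true := by decide +kernel

theorem chk7_r31 : rowB lit7 31 = true := by decide +kernel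

theorem chk7_r32 : rowB lit7 32 = true := by decide +kernel

theorem chk7_r33 : rowB lit7 33 = true := by decide +kernel

theorem chk7_r34 : rowB lit7 34 = true := by decide +kernel

theorem chk7_r35 : rowB lit7 35 = true := by decide +kernel

theorem chk7_r36 : rowB lit7 36 = true := by decide +kernel

theorem chk7_r37 : rowB lit7 37 = true := by decide +kernel

theorem chk7_r38 : rowB lit7 38 = true := by decide +kernel

theorem chk7_r39 : rowB lit7 39 = true := by decide +kernel

theorem chk7_r40 : rowB lit7 40 = true := by decide +kernel

theorem chk7_r41 : rowB lit7 41 = true := by decide +kernel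

theorem chk7_r42 : rowB lit7 42 = true := by decide +kernel

theorem chk7_r43 : rowB lit7 43 = true := by decide +kernel

theorem chk7_r44 : rowB lit7 44 = true := by decide +kernel

theorem chk7_r45 : rowB lit7 45 = true := by decide +kernel

theorem chk7_r46 : rowB lit7 46 = true := by decide +kernel

theorem chk7_r47 : rowB lit7 47 = true := by decide +kernel

theorem chk7_r48 : rowB lit7 48 = true := by decide +kernel

theorem chk7_r49 : rowB lit7 49 = true := by decide +kernel

theorem chk7_r50 : rowB lit7 50 = true := by decide +kernel

theorem chk7_r51 : rowB lit7 51 = true := by decide +kernel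

theorem chk7_r52 : rowB lit7 52 = true := by decide +kernel

theorem chk7_r53 : rowB lit7 53 = true := by decide +kernel

theorem chk7_r54 : rowB lit7 54 = true := by decide +kernel

theorem chk7_r55 : rowB lit7 55 = true := by decide +kernel

theorem chk7_r56 : rowB lit7 56 = true := by decide +kernel

theorem chk7_r57 : rowB lit7 57 = true := by decide +kernel

theorem chk7_r58 : rowB lit7 58 = true := by decide +kernel

theorem chk7_r59 : rowB lit7 59 = true := by decide +kernel

theorem chk7_r60 : rowB lit7 60 = true := by decide +kernel

theorem chk7_r61 : rowB lit7 61 = true := by decide +kernel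

theorem chk7_r62 : rowB lit7 62 = true := by decide +kernel

theorem chk7_r63 : rowB lit7 63 = true := by decide +kernel

theorem chk7_r64 : rowB lit7 64 = true := by decide +kernel

theorem chk7_r65 : rowB lit7 65 = true := by decide +kernel

theorem chk7_r66 : rowB lit7 66 = true := by decide +kernel

theorem chk7_r67 : rowB lit7 67 = true := by decide +kernel

theorem chk7_r68 : rowB lit7 68 = true := by decide +kernel

theorem chk7_r69 : rowB lit7 69 = true := by decide +kernel

theorem chk7_r70 : rowB lit7 70 = true := by decide +kernel

theorem chk7_r71 : rowB lit7 71 = true := by decide +kernel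

theorem chk7_r72 : rowB lit7 72 = true := by decide +kernel

theorem chk7_r73 : rowB lit7 73 = true := by decide +kernel

theorem chk7_r74 : rowB lit7 74 = true := by decide +kernel

theorem chk7_r75 : rowB lit7 75 = true := by decide +kernel

theorem chk7_r76 : rowB lit7 76 = true := by decide +kernel

theorem chk7_r77 : rowB lit7 77 = true := by decide +kernel

theorem chk7_r78 : rowB lit7 78 = true := by decide +kernel

theorem chk7_r79 : rowB lit7 79 = true := by decide +kernel

theorem chk7_r80 : rowB lit7 80 = true := by decide +kernel

theorem chk7_r81 : rowB lit7 81 = true := by decide +kernel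

theorem chk7_r82 : rowB lit7 82 = true := by decide +kernel

theorem chk7_r83 : rowB lit7 83 = true := by decide +kernel

theorem chk7_r84 : rowB lit7 84 = true := by decide +kernel

theorem chk7_r85 : rowB lit7 85 = true := by decide +kernel

theorem chk7_r86 : rowB lit7 86 = true := by decide +kernel

theorem chk7_r87 : rowB lit7 87 = true := by decide +kernel

theorem chk7_r88 : rowB lit7 88 = true := by decide +kernel

theorem chk7_r89 : rowB lit7 89 = true := by decide +kernel

theorem chk7_r90 : rowB lit7 90 = true := by decide +kernel

theorem chk7_r91 : rowB lit7 91 = true := by decide +kernel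

theorem chk7_r92 : rowB lit7 92 = true := by decide +kernel

theorem chk7_r93 : rowB lit7 93 = true := by decide +kernel

theorem chk7_r94 : rowB lit7 94 = true := by decide +kernel

theorem chk7_r95 : rowB lit7 95 = true := by decide +kernel

theorem chk7_r96 : rowB lit7 96 = true := by decide +kernel

theorem chk7_r97 : rowB lit7 97 = true := by decide +kernel

theorem chk7_r98 : rowB lit7 98 = true := by decide +kernel

theorem chk7_r99 : rowB lit7 99 = true := by decide +kernel

theorem chk7_r100 : rowB lit7 100 = true := by decide +kernel

theorem chk7_r101 : rowB lit7 101 = true := by decide +kernel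

theorem chk7_r102 : rowB lit7 102 = true := by decide +kernel

theorem chk7_r103 : rowB lit7 103 = true := by decide +kernel

theorem chk7_r104 : rowB lit7 104 = true := by decide +kernel

theorem chk7_r105 : rowB lit7 105 = true := by decide +kernel

theorem chk7_r106 : rowB lit7 106 = true := by decide +kernel

theorem chk7_r107 : rowB lit7 107 = true := by decide +kernel

theorem chk7_r108 : rowB lit7 108 = true := by decide +kernel

theorem chk7_r109 : rowB lit7 109 = true := by decide +kernel

theorem chk7_r110 : rowB lit7 110 = true := by decide +kernel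

theorem chk7_r111 : rowB lit7 111 = true := by decide +kernel

theorem chk7_r112 : rowB lit7 112 = true := by decide +kernel

theorem chk7_r113 : rowB lit7 113 = true := by decide +kernel

theorem chk7_r114 : rowB lit7 114 = true := by decide +kernel

theorem chk7_r115 : rowB lit7 115 = true := by decide +kernel

theorem chk7_r116 : rowB lit7 116 = true := by decide +kernel

theorem chk7_r117 : rowB lit7 117 = true := by decide +kernel

theorem chk7_r118 : rowB lit7 118 = true := by decide +kernel

theorem chk7_r119 : rowB lit7 119 = true := by decide +kernel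

theorem chk7_r120 : rowB lit7 120 = true := by decide +kernel

theorem chk7_r121 : rowB lit7 121 = true := by decide +kernel

theorem chk7_r122 : rowB lit7 122 = true := by decide +kernel

theorem chk7_r123 : rowB lit7 123 = true := by decide +kernel

theorem chk7_r124 : rowB lit7 124 = true := by decide +kernel

theorem chk7_r125 : rowB lit7 125 = true := by decide +kernel

theorem chk7_r126 : rowB lit7 126 = true := by decide +kernel

theorem chk7_r127 : rowB lit7 127 = true := by decide +kernel

theorem chk7_r128 : rowB lit7 128 = true := by decide +kernel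

theorem chk7_r129 : rowB lit7 129 = true := by decide +kernel

theorem chk7_r130 : rowB lit7 130 = true := by decide +kernel

theorem chk7_r131 : rowB lit7 131 = true := by decide +kernel

theorem chk7_r132 : rowB lit7 132 = true := by decide +kernel

theorem chk7_upTo0 : ∀ j, j < 0 → rowB lit7 j = true := rows_zero

theorem chk7_upTo19 : ∀ j, j < 19 → rowB lit7 j = true :=
  rows_step (rows_step (rows_step (rows_step (rows_step (rows_step (rows_step (rows_step (rows_step (rows_step (rows_step (rows_step (rows_step (rows_step (rows_step (rows_step (rows_step (rows_step (rows_step chk7_upTo0 chk7_r0) chk7_r1) chk7_r2) chk7_r3) chk7_r4) chk7_r5) chk7_r6) chk7_r7) chk7_r8) chk7_r9) chk7_r10) chk7_r11) chk7_r12) chk7_r13) chk7_r14) chk7_r15) chk7_r16) chk7_r17) chk7_r18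

theorem chk7_upTo38 : ∀ j, j < 38 → rowB lit7 j = true :=
  rows_step (rows_step (rows_step (rows_step (rows_step (rows_step (rows_step (rows_step (rows_step (rows_step (rows_step (rows_step (rows_step (rows_step (rows_step (rows_step (rows_step (rows_step (rows_step chk7_upTo19 chk7_r19) chk7_r20) chk7_r21) chk7_r22) chk7_r23) chk7_r24) chk7_r25) chk7_r26) chk7_r27) chk7_r28) chk7_r29) chk7_r30) chk7_r31) chk7_r32) chk7_r33) chk7_r34) chk7_r35) chk7_r36) chk7_r37

theorem chk7_upTo57 : ∀ j, j < 57 → rowB lit7 j = true :=
  rows_step (rows_step (rows_step (rows_step (rows_step (rows_step (rows_step (rows_step (rows_step (rows_step (rows_step (rows_step (rows_step (rows_step (rows_step (rows_step (rows_step (rows_step (rows_step chk7_upTo38 chk7_r38) chk7_r39) chk7_r40) chk7_r41) chk7_r42) chk7_r43) chk7_r44) chk7_r45) chk7_r46) chk7_r47) chk7_r48) chk7_r49) chk7_r50) chk7_r51) chk7_r52) chk7_r53) chk7_r54) chk7_r55) chk7_r56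

theorem chk7_upTo76 : ∀ j, j < 76 → rowB lit7 j = true :=
  rows_step (rows_step (rows_step (rows_step (rows_step (rows_step (rows_step (rows_step (rows_step (rows_step (rows_step (rows_step (rows_step (rows_step (rows_step (rows_step (rows_step (rows_step (rows_step chk7_upTo57 chk7_r57) chk7_r58) chk7_r59) chk7_r60) chk7_r61) chk7_r62) chk7_r63) chk7_r64) chk7_r65) chk7_r66) chk7_r67) chk7_r68) chk7_r69) chk7_r70) chk7_r71) chk7_r72) chk7_r73) chk7_r74) chk7_r75

theorem chk7_upTo95 : ∀ j, j < 95 → rowB lit7 j = true :=
  rows_step (rows_step (rows_step (rows_step (rows_step (rows_step (rows_step (rows_step (rows_step (rows_step (rows_step (rows_step (rows_step (rows_step (rows_step (rows_step (rows_step (rows_step (rows_step chk7_upTo76 chk7_r76) chk7_r77) chk7_r78) chk7_r79) chk7_r80) chk7_r81) chk7_r82) chk7_r83) chk7_r84) chk7_r85) chk7_r86) chk7_r87) chk7_r88) chk7_r89) chk7_r90) chk7_r91) chk7_r92) chk7_r93) chk7_r94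

theorem chk7_upTo114 : ∀ j, j < 114 → rowB lit7 j = true :=
  rows_step (rows_step (rows_step (rows_step (rows_step (rows_step (rows_step (rows_step (rows_step (rows_step (rows_step (rows_step (rows_step (rows_step (rows_step (rows_step (rows_step (rows_step (rows_step chk7_upTo95 chk7_r95) chk7_r96) chk7_r97) chk7_r98) chk7_r99) chk7_r100) chk7_r101) chk7_r102) chk7_r103) chk7_r104) chk7_r105) chk7_r106) chk7_r107) chk7_r108) chk7_r109) chk7_r110) chk7_r111) chk7_r112) chk7_r113

theorem chk7_upTo133 : ∀ j, j < 133 → rowB lit7 j = true :=
  rows_step (rows_step (rows_step (rows_step (rows_step (rows_step (rows_step (rows_step (rows_step (rows_step (rows_step (rows_step (rows_step (rows_step (rows_step (rows_step (rows_step (rows_step (rows_step chk7_upTo114 chk7_r114) chk7_r115) chk7_r116) chk7_r117) chk7_r118) chk7_r119) chk7_r120) chk7_r121) chk7_r122) chk7_r123) chk7_r124) chk7_r125) chk7_r126) chk7_r127) chk7_r128) chk7_r129) chk7_r130) chk7_r131) chk7_r132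

theorem chk7 : id133.map (rowW mask133 m133 (chkW 7)) = id133 := by
  rw [chk7_word]
  exact map_of_rows chk7_upTo133

end Cfsg.Agent.HNRec.Amalgam
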