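import Cfsg.Agent.HNRec.Amalgam.Words

/-! Generated: kernel checks of one word, a row per theorem (the kernel caches terms by the low bits of
literals, so large single checks are quadratic). -/

set_option Elab.async false
set_option maxRecDepth 100000

namespace Cfsg.Agent.HNRec.Amalgam

open Cfsg.Agent.HNSub

/-- The word, written out. -/
def lit8 : List Nat := [3, 3, 3, 2, 3, 0, 2, 0, 1, 0, 2, 5, 3, 3, 3, 2, 3, 0, 2, 1, 6, 4, 5, 4, 3, 3, 3, 2, 3, 0, 2, 1, 6, 4, 5, 4, 0, 1, 0, 1, 4, 0, 6, 4, 6, 1, 0, 1, 0, 1, 0, 5, 4, 0, 4, 0, 0, 1, 4, 0, 1, 0, 1, 4, 0, 6, 4, 6, 1, 0, 1, 0, 1, 0, 5, 4, 0, 4, 0, 0, 1, 4, 0, 1, 0, 5, 4, 0, 4, 0, 0, 1, 4, 0, 1, 0, 5, 4, 0, 4, 0, 0, 1, 4, 0, 1, 0, 5, 4, 0, 4, 0, 0, 1, 4, 0, 1, 0, 5, 4, 0, 4, 0, 0, 1, 4, 0, 1, 0, 1, 4, 0, 6, 4, 6, 1, 0, 1, 6]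

theorem chk8_word : chkW 8 = lit8 := by decide +kernel

theorem chk8_r0 : rowB lit8 0 = true := by decide +kernel

theorem chk8_r1 : rowB lit8 1 = true := by decide +kernel

theorem chk8_r2 : rowB lit8 2 = true := by decide +kernel

theorem chk8_r3 : rowB lit8 3 = true := by decide +kernel

theorem chk8_r4 : rowB lit8 4 = true := by decide +kernel

theorem chk8_r5 : rowB lit8 5 = true := by decide +kernel

theorem chk8_r6 : rowB lit8 6 = true := by decide +kernel

theorem chk8_r7 : rowB lit8 7 = true := by decide +kernel

theorem chk8_r8 : rowB lit8 8 = true := by decide +kernel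

theorem chk8_r9 : rowB lit8 9 = true := by decide +kernel

theorem chk8_r10 : rowB lit8 10 = true := by decide +kernel

theorem chk8_r11 : rowB lit8 11 = true := by decide +kernel

theorem chk8_r12 : rowB lit8 12 = true := by decide +kernel

theorem chk8_r13 : rowB lit8 13 = true := by decide +kernel

theorem chk8_r14 : rowB lit8 14 = true := by decide +kernel

theorem chk8_r15 : rowB lit8 15 = true := by decide +kernel

theorem chk8_r16 : rowB lit8 16 = true := by decide +kernel

theorem chk8_r17 : rowB lit8 17 = true := by decide +kernel

theorem chk8_r18 : rowB lit8 18 = true := by decide +kernel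

theorem chk8_r19 : rowB lit8 19 = true := by decide +kernel

theorem chk8_r20 : rowB lit8 20 = true := by decide +kernel

theorem chk8_r21 : rowB lit8 21 = true := by decide +kernel

theorem chk8_r22 : rowB lit8 22 = true := by decide +kernel

theorem chk8_r23 : rowB lit8 23 = true := by decide +kernel

theorem chk8_r24 : rowB lit8 24 = true := by decide +kernel

theorem chk8_r25 : rowB lit8 25 = true := by decide +kernel

theorem chk8_r26 : rowB lit8 26 = true := by decide +kernel

theorem chk8_r27 : rowB lit8 27 = true := by decide +kernel

theorem chk8_r28 : rowB lit8 28 = true := by decide +kernel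

theorem chk8_r29 : rowB lit8 29 = true := by decide +kernel

theorem chk8_r30 : rowB lit8 30 = true := by decide +kernel

theorem chk8_r31 : rowB lit8 31 = true := by decide +kernel

theorem chk8_r32 : rowB lit8 32 = true := by decide +kernel

theorem chk8_r33 : rowB lit8 33 = true := by decide +kernel

theorem chk8_r34 : rowB lit8 34 = true := by decide +kernel

theorem chk8_r35 : rowB lit8 35 = true := by decide +kernel

theorem chk8_r36 : rowB lit8 36 = true := by decide +kernel

theorem chk8_r37 : rowB lit8 37 = true := by decide +kernel

theorem chk8_r38 : rowB lit8 38 = true := by decide +kernel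

theorem chk8_r39 : rowB lit8 39 = true := by decide +kernel

theorem chk8_r40 : rowB lit8 40 = true := by decide +kernel

theorem chk8_r41 : rowB lit8 41 = true := by decide +kernel

theorem chk8_r42 : rowB lit8 42 = true := by decide +kernel

theorem chk8_r43 : rowB lit8 43 = true := by decide +kernel

theorem chk8_r44 : rowB lit8 44 = true := by decide +kernel

theorem chk8_r45 : rowB lit8 45 = true := by decide +kernel

theorem chk8_r46 : rowB lit8 46 = true := by decide +kernel

theorem chk8_r47 : rowB lit8 47 = true := by decide +kernel

theorem chk8_r48 : rowB lit8 48 = true := by decide +kernel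

theorem chk8_r49 : rowB lit8 49 = true := by decide +kernel

theorem chk8_r50 : rowB lit8 50 = true := by decide +kernel

theorem chk8_r51 : rowB lit8 51 = true := by decide +kernel

theorem chk8_r52 : rowB lit8 52 = true := by decide +kernel

theorem chk8_r53 : rowB lit8 53 = true := by decide +kernel

theorem chk8_r54 : rowB lit8 54 = true := by decide +kernel

theorem chk8_r55 : rowB lit8 55 = true := by decide +kernel

theorem chk8_r56 : rowB lit8 56 = true := by decide +kernel

theorem chk8_r57 : rowB lit8 57 = true := by decide +kernel

theorem chk8_r58 : rowB lit8 58 = true := by decide +kernel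

theorem chk8_r59 : rowB lit8 59 = true := by decide +kernel

theorem chk8_r60 : rowB lit8 60 = true := by decide +kernel

theorem chk8_r61 : rowB lit8 61 = true := by decide +kernel

theorem chk8_r62 : rowB lit8 62 = true := by decide +kernel

theorem chk8_r63 : rowB lit8 63 = true := by decide +kernel

theorem chk8_r64 : rowB lit8 64 = true := by decide +kernel

theorem chk8_r65 : rowB lit8 65 = true := by decide +kernel

theorem chk8_r66 : rowB lit8 66 = true := by decide +kernel

theorem chk8_r67 : rowB lit8 67 = true := by decide +kernel

theorem chk8_r68 : rowB lit8 68 = true := by decide +kernel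

theorem chk8_r69 : rowB lit8 69 = true := by decide +kernel

theorem chk8_r70 : rowB lit8 70 = true := by decide +kernel

theorem chk8_r71 : rowB lit8 71 = true := by decide +kernel

theorem chk8_r72 : rowB lit8 72 = true := by decide +kernel

theorem chk8_r73 : rowB lit8 73 = true := by decide +kernel

theorem chk8_r74 : rowB lit8 74 = true := by decide +kernel

theorem chk8_r75 : rowB lit8 75 = true := by decide +kernel

theorem chk8_r76 : rowB lit8 76 = true := by decide +kernel

theorem chk8_r77 : rowB lit8 77 = true := by decide +kernel

theorem chk8_r78 : rowB lit8 78 = true := by decide +kernel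

theorem chk8_r79 : rowB lit8 79 = true := by decide +kernel

theorem chk8_r80 : rowB lit8 80 = true := by decide +kernel

theorem chk8_r81 : rowB lit8 81 = true := by decide +kernel

theorem chk8_r82 : rowB lit8 82 = true := by decide +kernel

theorem chk8_r83 : rowB lit8 83 = true := by decide +kernel

theorem chk8_r84 : rowB lit8 84 = true := by decide +kernel

theorem chk8_r85 : rowB lit8 85 = true := by decide +kernel

theorem chk8_r86 : rowB lit8 86 = true := by decide +kernel

theorem chk8_r87 : rowB lit8 87 = true := by decide +kernel

theorem chk8_r88 : rowB lit8 88 = true := by decide +kernel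

theorem chk8_r89 : rowB lit8 89 = true := by decide +kernel

theorem chk8_r90 : rowB lit8 90 = true := by decide +kernel

theorem chk8_r91 : rowB lit8 91 = true := by decide +kernel

theorem chk8_r92 : rowB lit8 92 = true := by decide +kernel

theorem chk8_r93 : rowB lit8 93 = true := by decide +kernel

theorem chk8_r94 : rowB lit8 94 = true := by decide +kernel

theorem chk8_r95 : rowB lit8 95 = true := by decide +kernel

theorem chk8_r96 : rowB lit8 96 = true := by decide +kernel

theorem chk8_r97 : rowB lit8 97 = true := by decide +kernel

theorem chk8_r98 : rowB lit8 98 = true := by decide +kernel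

theorem chk8_r99 : rowB lit8 99 = true := by decide +kernel

theorem chk8_r100 : rowB lit8 100 = true := by decide +kernel

theorem chk8_r101 : rowB lit8 101 = true := by decide +kernel

theorem chk8_r102 : rowB lit8 102 = true := by decide +kernel

theorem chk8_r103 : rowB lit8 103 = true := by decide +kernel

theorem chk8_r104 : rowB lit8 104 = true := by decide +kernel

theorem chk8_r105 : rowB lit8 105 = true := by decide +kernel

theorem chk8_r106 : rowB lit8 106 = true := by decide +kernel

theorem chk8_r107 : rowB lit8 107 = true := by decide +kernel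

theorem chk8_r108 : rowB lit8 108 = true := by decide +kernel

theorem chk8_r109 : rowB lit8 109 = true := by decide +kernel

theorem chk8_r110 : rowB lit8 110 = true := by decide +kernel

theorem chk8_r111 : rowB lit8 111 = true := by decide +kernel

theorem chk8_r112 : rowB lit8 112 = true := by decide +kernel

theorem chk8_r113 : rowB lit8 113 = true := by decide +kernel

theorem chk8_r114 : rowB lit8 114 = true := by decide +kernel

theorem chk8_r115 : rowB lit8 115 = true := by decide +kernel

theorem chk8_r116 : rowB lit8 116 = true := by decide +kernel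

theorem chk8_r117 : rowB lit8 117 = true := by decide +kernel

theorem chk8_r118 : rowB lit8 118 = true := by decide +kernel

theorem chk8_r119 : rowB lit8 119 = true := by decide +kernel

theorem chk8_r120 : rowB lit8 120 = true := by decide +kernel

theorem chk8_r121 : rowB lit8 121 = true := by decide +kernel

theorem chk8_r122 : rowB lit8 122 = true := by decide +kernel

theorem chk8_r123 : rowB lit8 123 = true := by decide +kernel

theorem chk8_r124 : rowB lit8 124 = true := by decide +kernel

theorem chk8_r125 : rowB lit8 125 = true := by decide +kernel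

theorem chk8_r126 : rowB lit8 126 = true := by decide +kernel

theorem chk8_r127 : rowB lit8 127 = true := by decide +kernel

theorem chk8_r128 : rowB lit8 128 = true := by decide +kernel

theorem chk8_r129 : rowB lit8 129 = true := by decide +kernel

theorem chk8_r130 : rowB lit8 130 = true := by decide +kernel

theorem chk8_r131 : rowB lit8 131 = true := by decide +kernel

theorem chk8_r132 : rowB lit8 132 = true := by decide +kernel

theorem chk8_upTo0 : ∀ j, j < 0 → rowB lit8 j = true := rows_zero

theorem chk8_upTo19 : ∀ j, j < 19 → rowB lit8 j = true :=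
  rows_step (rows_step (rows_step (rows_step (rows_step (rows_step (rows_step (rows_step (rows_step (rows_step (rows_step (rows_step (rows_step (rows_step (rows_step (rows_step (rows_step (rows_step (rows_step chk8_upTo0 chk8_r0) chk8_r1) chk8_r2) chk8_r3) chk8_r4) chk8_r5) chk8_r6) chk8_r7) chk8_r8) chk8_r9) chk8_r10) chk8_r11) chk8_r12) chk8_r13) chk8_r14) chk8_r15) chk8_r16) chk8_r17) chk8_r18

theorem chk8_upTo38 : ∀ j, j < 38 → rowB lit8 j = true :=
  rows_step (rows_step (rows_step (rows_step (rows_step (rows_step (rows_step (rows_step (rows_step (rows_step (rows_step (rows_step (rows_step (rows_step (rows_step (rows_step (rows_step (rows_step (rows_step chk8_upTo19 chk8_r19) chk8_r20) chk8_r21) chk8_r22) chk8_r23) chk8_r24) chk8_r25) chk8_r26) chk8_r27) chk8_r28) chk8_r29) chk8_r30) chk8_r31) chk8_r32) chk8_r33) chk8_r34) chk8_r35) chk8_r36) chk8_r37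

theorem chk8_upTo57 : ∀ j, j < 57 → rowB lit8 j = true :=
  rows_step (rows_step (rows_step (rows_step (rows_step (rows_step (rows_step (rows_step (rows_step (rows_step (rows_step (rows_step (rows_step (rows_step (rows_step (rows_step (rows_step (rows_step (rows_step chk8_upTo38 chk8_r38) chk8_r39) chk8_r40) chk8_r41) chk8_r42) chk8_r43) chk8_r44) chk8_r45) chk8_r46) chk8_r47) chk8_r48) chk8_r49) chk8_r50) chk8_r51) chk8_r52) chk8_r53) chk8_r54) chk8_r55) chk8_r56

theorem chk8_upTo76 : ∀ j, j < 76 → rowB lit8 j = true :=
  rows_step (rows_step (rows_step (rows_step (rows_step (rows_step (rows_step (rows_step (rows_step (rows_step (rows_step (rows_step (rows_step (rows_step (rows_step (rows_step (rows_step (rows_step (rows_step chk8_upTo57 chk8_r57) chk8_r58) chk8_r59) chk8_r60) chk8_r61) chk8_r62) chk8_r63) chk8_r64) chk8_r65) chk8_r66) chk8_r67) chk8_r68) chk8_r69) chk8_r70) chk8_r71) chk8_r72) chk8_r73) chk8_r74) chk8_r75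

theorem chk8_upTo95 : ∀ j, j < 95 → rowB lit8 j = true :=
  rows_step (rows_step (rows_step (rows_step (rows_step (rows_step (rows_step (rows_step (rows_step (rows_step (rows_step (rows_step (rows_step (rows_step (rows_step (rows_step (rows_step (rows_step (rows_step chk8_upTo76 chk8_r76) chk8_r77) chk8_r78) chk8_r79) chk8_r80) chk8_r81) chk8_r82) chk8_r83) chk8_r84) chk8_r85) chk8_r86) chk8_r87) chk8_r88) chk8_r89) chk8_r90) chk8_r91) chk8_r92) chk8_r93) chk8_r94

theorem chk8_upTo114 : ∀ j, j < 114 → rowB lit8 j = true :=
  rows_step (rows_step (rows_step (rows_step (rows_step (rows_step (rows_step (rows_step (rows_step (rows_step (rows_step (rows_step (rows_step (rows_step (rows_step (rows_step (rows_step (rows_step (rows_step chk8_upTo95 chk8_r95) chk8_r96) chk8_r97) chk8_r98) chk8_r99) chk8_r100) chk8_r101) chk8_r102) chk8_r103) chk8_r104) chk8_r105) chk8_r106) chk8_r107) chk8_r108) chk8_r109) chk8_r110) chk8_r111) chk8_r112) chk8_r113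

theorem chk8_upTo133 : ∀ j, j < 133 → rowB lit8 j = true :=
  rows_step (rows_step (rows_step (rows_step (rows_step (rows_step (rows_step (rows_step (rows_step (rows_step (rows_step (rows_step (rows_step (rows_step (rows_step (rows_step (rows_step (rows_step (rows_step chk8_upTo114 chk8_r114) chk8_r115) chk8_r116) chk8_r117) chk8_r118) chk8_r119) chk8_r120) chk8_r121) chk8_r122) chk8_r123) chk8_r124) chk8_r125) chk8_r126) chk8_r127) chk8_r128) chk8_r129) chk8_r130) chk8_r131) chk8_r132

theorem chk8 : id133.map (rowW mask133 m133 (chkW 8)) = id133 := by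
  rw [chk8_word]
  exact map_of_rows chk8_upTo133

end Cfsg.Agent.HNRec.Amalgam
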