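import Cfsg.Agent.HNRec.Amalgam.Words

/-! Generated: kernel checks of one word, a row per theorem (the kernel caches terms by the low bits of
literals, so large single checks are quadratic). -/

set_option Elab.async false
set_option maxRecDepth 100000

namespace Cfsg.Agent.HNRec.Amalgam

open Cfsg.Agent.HNSub

/-- The word, written out. -/
def lit9 : List Nat := [0, 5, 4, 6, 0, 4, 0, 1, 6, 5, 4, 5, 4, 5, 2, 0, 2, 4, 0, 5, 4, 5, 4, 0, 5, 4, 4, 0, 4, 0, 1, 4, 5, 4, 0, 5, 4, 4, 0, 4, 0, 1, 4, 5, 4, 0, 5, 4, 6, 0, 4, 0, 1, 6, 5, 4, 5, 4, 5, 2, 0, 2, 4, 0, 5, 4, 5, 4, 0, 5, 4, 6, 0, 4, 0, 1, 6, 5, 4, 0, 5, 4, 4, 0, 4, 0, 1, 4, 5, 4, 0, 5, 4, 4, 0, 4, 0, 1, 4, 5, 4, 0, 5, 4, 6, 0, 4, 0, 1, 6, 5, 4, 0, 1, 1, 1, 0, 5, 2, 5, 5, 3, 3, 3, 2, 3, 0, 2, 0, 1, 1, 2, 3, 3, 3, 2, 3, 0, 2, 0, 5, 5, 2, 3, 3, 3, 2, 3, 0, 2, 1, 4, 1, 4, 5, 5, 6, 5, 5, 7]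

theorem chk9_word : chkW 9 = lit9 := by decide +kernel

theorem chk9_r0 : rowB lit9 0 = true := by decide +kernel

theorem chk9_r1 : rowB lit9 1 = true := by decide +kernel

theorem chk9_r2 : rowB lit9 2 = true := by decide +kernel

theorem chk9_r3 : rowB lit9 3 = true := by decide +kernel

theorem chk9_r4 : rowB lit9 4 = true := by decide +kernel

theorem chk9_r5 : rowB lit9 5 = true := by decide +kernel

theorem chk9_r6 : rowB lit9 6 = true := by decide +kernel

theorem chk9_r7 : rowB lit9 7 = true := by decide +kernel

theorem chk9_r8 : rowB lit9 8 = true := by decide +kernel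

theorem chk9_r9 : rowB lit9 9 = true := by decide +kernel

theorem chk9_r10 : rowB lit9 10 = true := by decide +kernel

theorem chk9_r11 : rowB lit9 11 = true := by decide +kernel

theorem chk9_r12 : rowB lit9 12 = true := by decide +kernel

theorem chk9_r13 : rowB lit9 13 = true := by decide +kernel

theorem chk9_r14 : rowB lit9 14 = true := by decide +kernel

theorem chk9_r15 : rowB lit9 15 = true := by decide +kernel

theorem chk9_r16 : rowB lit9 16 = true := by decide +kernel

theorem chk9_r17 : rowB lit9 17 = true := by decide +kernel

theorem chk9_r18 : rowB lit9 18 = true := by decide +kernel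

theorem chk9_r19 : rowB lit9 19 = true := by decide +kernel

theorem chk9_r20 : rowB lit9 20 = true := by decide +kernel

theorem chk9_r21 : rowB lit9 21 = true := by decide +kernel

theorem chk9_r22 : rowB lit9 22 = true := by decide +kernel

theorem chk9_r23 : rowB lit9 23 = true := by decide +kernel

theorem chk9_r24 : rowB lit9 24 = true := by decide +kernel

theorem chk9_r25 : rowB lit9 25 = true := by decide +kernel

theorem chk9_r26 : rowB lit9 26 = true := by decide +kernel

theorem chk9_r27 : rowB lit9 27 = true := by decide +kernel

theorem chk9_r28 : rowB lit9 28 = true := by decide +kernel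

theorem chk9_r29 : rowB lit9 29 = true := by decide +kernel

theorem chk9_r30 : rowB lit9 30 = true := by decide +kernel

theorem chk9_r31 : rowB lit9 31 = true := by decide +kernel

theorem chk9_r32 : rowB lit9 32 = true := by decide +kernel

theorem chk9_r33 : rowB lit9 33 = true := by decide +kernel

theorem chk9_r34 : rowB lit9 34 = true := by decide +kernel

theorem chk9_r35 : rowB lit9 35 = true := by decide +kernel

theorem chk9_r36 : rowB lit9 36 = true := by decide +kernel

theorem chk9_r37 : rowB lit9 37 = true := by decide +kernel

theorem chk9_r38 : rowB lit9 38 = true := by decide +kernel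

theorem chk9_r39 : rowB lit9 39 = true := by decide +kernel

theorem chk9_r40 : rowB lit9 40 = true := by decide +kernel

theorem chk9_r41 : rowB lit9 41 = true := by decide +kernel

theorem chk9_r42 : rowB lit9 42 = true := by decide +kernel

theorem chk9_r43 : rowB lit9 43 = true := by decide +kernel

theorem chk9_r44 : rowB lit9 44 = true := by decide +kernel

theorem chk9_r45 : rowB lit9 45 = true := by decide +kernel

theorem chk9_r46 : rowB lit9 46 = true := by decide +kernel

theorem chk9_r47 : rowB lit9 47 = true := by decide +kernel

theorem chk9_r48 : rowB lit9 48 = true := by decide +kernel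

theorem chk9_r49 : rowB lit9 49 = true := by decide +kernel

theorem chk9_r50 : rowB lit9 50 = true := by decide +kernel

theorem chk9_r51 : rowB lit9 51 = true := by decide +kernel

theorem chk9_r52 : rowB lit9 52 = true := by decide +kernel

theorem chk9_r53 : rowB lit9 53 = true := by decide +kernel

theorem chk9_r54 : rowB lit9 54 = true := by decide +kernel

theorem chk9_r55 : rowB lit9 55 = true := by decide +kernel

theorem chk9_r56 : rowB lit9 56 = true := by decide +kernel

theorem chk9_r57 : rowB lit9 57 = true := by decide +kernel

theorem chk9_r58 : rowB lit9 58 = true := by decide +kernel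

theorem chk9_r59 : rowB lit9 59 = true := by decide +kernel

theorem chk9_r60 : rowB lit9 60 = true := by decide +kernel

theorem chk9_r61 : rowB lit9 61 = true := by decide +kernel

theorem chk9_r62 : rowB lit9 62 = true := by decide +kernel

theorem chk9_r63 : rowB lit9 63 = true := by decide +kernel

theorem chk9_r64 : rowB lit9 64 = true := by decide +kernel

theorem chk9_r65 : rowB lit9 65 = true := by decide +kernel

theorem chk9_r66 : rowB lit9 66 = true := by decide +kernel

theorem chk9_r67 : rowB lit9 67 = true := by decide +kernel

theorem chk9_r68 : rowB lit9 68 = true := by decide +kernel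

theorem chk9_r69 : rowB lit9 69 = true := by decide +kernel

theorem chk9_r70 : rowB lit9 70 = true := by decide +kernel

theorem chk9_r71 : rowB lit9 71 = true := by decide +kernel

theorem chk9_r72 : rowB lit9 72 = true := by decide +kernel

theorem chk9_r73 : rowB lit9 73 = true := by decide +kernel

theorem chk9_r74 : rowB lit9 74 = true := by decide +kernel

theorem chk9_r75 : rowB lit9 75 = true := by decide +kernel

theorem chk9_r76 : rowB lit9 76 = true := by decide +kernel

theorem chk9_r77 : rowB lit9 77 = true := by decide +kernel

theorem chk9_r78 : rowB lit9 78 = true := by decide +kernel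

theorem chk9_r79 : rowB lit9 79 = true := by decide +kernel

theorem chk9_r80 : rowB lit9 80 = true := by decide +kernel

theorem chk9_r81 : rowB lit9 81 = true := by decide +kernel

theorem chk9_r82 : rowB lit9 82 = true := by decide +kernel

theorem chk9_r83 : rowB lit9 83 = true := by decide +kernel

theorem chk9_r84 : rowB lit9 84 = true := by decide +kernel

theorem chk9_r85 : rowB lit9 85 = true := by decide +kernel

theorem chk9_r86 : rowB lit9 86 = true := by decide +kernel

theorem chk9_r87 : rowB lit9 87 = true := by decide +kernel

theorem chk9_r88 : rowB lit9 88 = true := by decide +kernel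

theorem chk9_r89 : rowB lit9 89 = true := by decide +kernel

theorem chk9_r90 : rowB lit9 90 = true := by decide +kernel

theorem chk9_r91 : rowB lit9 91 = true := by decide +kernel

theorem chk9_r92 : rowB lit9 92 = true := by decide +kernel

theorem chk9_r93 : rowB lit9 93 = true := by decide +kernel

theorem chk9_r94 : rowB lit9 94 = true := by decide +kernel

theorem chk9_r95 : rowB lit9 95 = true := by decide +kernel

theorem chk9_r96 : rowB lit9 96 = true := by decide +kernel

theorem chk9_r97 : rowB lit9 97 = true := by decide +kernel

theorem chk9_r98 : rowB lit9 98 = true := by decide +kernel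

theorem chk9_r99 : rowB lit9 99 = true := by decide +kernel

theorem chk9_r100 : rowB lit9 100 = true := by decide +kernel

theorem chk9_r101 : rowB lit9 101 = true := by decide +kernel

theorem chk9_r102 : rowB lit9 102 = true := by decide +kernel

theorem chk9_r103 : rowB lit9 103 = true := by decide +kernel

theorem chk9_r104 : rowB lit9 104 = true := by decide +kernel

theorem chk9_r105 : rowB lit9 105 = true := by decide +kernel

theorem chk9_r106 : rowB lit9 106 = true := by decide +kernel

theorem chk9_r107 : rowB lit9 107 = true := by decide +kernel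

theorem chk9_r108 : rowB lit9 108 = true := by decide +kernel

theorem chk9_r109 : rowB lit9 109 = true := by decide +kernel

theorem chk9_r110 : rowB lit9 110 = true := by decide +kernel

theorem chk9_r111 : rowB lit9 111 = true := by decide +kernel

theorem chk9_r112 : rowB lit9 112 = true := by decide +kernel

theorem chk9_r113 : rowB lit9 113 = true := by decide +kernel

theorem chk9_r114 : rowB lit9 114 = true := by decide +kernel

theorem chk9_r115 : rowB lit9 115 = true := by decide +kernel

theorem chk9_r116 : rowB lit9 116 = true := by decide +kernel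

theorem chk9_r117 : rowB lit9 117 = true := by decide +kernel

theorem chk9_r118 : rowB lit9 118 = true := by decide +kernel

theorem chk9_r119 : rowB lit9 119 = true := by decide +kernel

theorem chk9_r120 : rowB lit9 120 = true := by decide +kernel

theorem chk9_r121 : rowB lit9 121 = true := by decide +kernel

theorem chk9_r122 : rowB lit9 122 = true := by decide +kernel

theorem chk9_r123 : rowB lit9 123 = true := by decide +kernel

theorem chk9_r124 : rowB lit9 124 = true := by decide +kernel

theorem chk9_r125 : rowB lit9 125 = true := by decide +kernel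

theorem chk9_r126 : rowB lit9 126 = true := by decide +kernel

theorem chk9_r127 : rowB lit9 127 = true := by decide +kernel

theorem chk9_r128 : rowB lit9 128 = true := by decide +kernel

theorem chk9_r129 : rowB lit9 129 = true := by decide +kernel

theorem chk9_r130 : rowB lit9 130 = true := by decide +kernel

theorem chk9_r131 : rowB lit9 131 = true := by decide +kernel

theorem chk9_r132 : rowB lit9 132 = true := by decide +kernel

theorem chk9_upTo0 : ∀ j, j < 0 → rowB lit9 j = true := rows_zero

theorem chk9_upTo19 : ∀ j, j < 19 → rowB lit9 j = true :=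
  rows_step (rows_step (rows_step (rows_step (rows_step (rows_step (rows_step (rows_step (rows_step (rows_step (rows_step (rows_step (rows_step (rows_step (rows_step (rows_step (rows_step (rows_step (rows_step chk9_upTo0 chk9_r0) chk9_r1) chk9_r2) chk9_r3) chk9_r4) chk9_r5) chk9_r6) chk9_r7) chk9_r8) chk9_r9) chk9_r10) chk9_r11) chk9_r12) chk9_r13) chk9_r14) chk9_r15) chk9_r16) chk9_r17) chk9_r18

theorem chk9_upTo38 : ∀ j, j < 38 → rowB lit9 j = true :=
  rows_step (rows_step (rows_step (rows_step (rows_step (rows_step (rows_step (rows_step (rows_step (rows_step (rows_step (rows_step (rows_step (rows_step (rows_step (rows_step (rows_step (rows_step (rows_step chk9_upTo19 chk9_r19) chk9_r20) chk9_r21) chk9_r22) chk9_r23) chk9_r24) chk9_r25) chk9_r26) chk9_r27) chk9_r28) chk9_r29) chk9_r30) chk9_r31) chk9_r32) chk9_r33) chk9_r34) chk9_r35) chk9_r36) chk9_r37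

theorem chk9_upTo57 : ∀ j, j < 57 → rowB lit9 j = true :=
  rows_step (rows_step (rows_step (rows_step (rows_step (rows_step (rows_step (rows_step (rows_step (rows_step (rows_step (rows_step (rows_step (rows_step (rows_step (rows_step (rows_step (rows_step (rows_step chk9_upTo38 chk9_r38) chk9_r39) chk9_r40) chk9_r41) chk9_r42) chk9_r43) chk9_r44) chk9_r45) chk9_r46) chk9_r47) chk9_r48) chk9_r49) chk9_r50) chk9_r51) chk9_r52) chk9_r53) chk9_r54) chk9_r55) chk9_r56

theorem chk9_upTo76 : ∀ j, j < 76 → rowB lit9 j = true :=
  rows_step (rows_step (rows_step (rows_step (rows_step (rows_step (rows_step (rows_step (rows_step (rows_step (rows_step (rows_step (rows_step (rows_step (rows_step (rows_step (rows_step (rows_step (rows_step chk9_upTo57 chk9_r57) chk9_r58) chk9_r59) chk9_r60) chk9_r61) chk9_r62) chk9_r63) chk9_r64) chk9_r65) chk9_r66) chk9_r67) chk9_r68) chk9_r69) chk9_r70) chk9_r71) chk9_r72) chk9_r73) chk9_r74) chk9_r75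

theorem chk9_upTo95 : ∀ j, j < 95 → rowB lit9 j = true :=
  rows_step (rows_step (rows_step (rows_step (rows_step (rows_step (rows_step (rows_step (rows_step (rows_step (rows_step (rows_step (rows_step (rows_step (rows_step (rows_step (rows_step (rows_step (rows_step chk9_upTo76 chk9_r76) chk9_r77) chk9_r78) chk9_r79) chk9_r80) chk9_r81) chk9_r82) chk9_r83) chk9_r84) chk9_r85) chk9_r86) chk9_r87) chk9_r88) chk9_r89) chk9_r90) chk9_r91) chk9_r92) chk9_r93) chk9_r94

theorem chk9_upTo114 : ∀ j, j < 114 → rowB lit9 j = true :=
  rows_step (rows_step (rows_step (rows_step (rows_step (rows_step (rows_step (rows_step (rows_step (rows_step (rows_step (rows_step (rows_step (rows_step (rows_step (rows_step (rows_step (rows_step (rows_step chk9_upTo95 chk9_r95) chk9_r96) chk9_r97) chk9_r98) chk9_r99) chk9_r100) chk9_r101) chk9_r102) chk9_r103) chk9_r104) chk9_r105) chk9_r106) chk9_r107) chk9_r108) chk9_r109) chk9_r110) chk9_r111) chk9_r112) chk9_r113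

theorem chk9_upTo133 : ∀ j, j < 133 → rowB lit9 j = true :=
  rows_step (rows_step (rows_step (rows_step (rows_step (rows_step (rows_step (rows_step (rows_step (rows_step (rows_step (rows_step (rows_step (rows_step (rows_step (rows_step (rows_step (rows_step (rows_step chk9_upTo114 chk9_r114) chk9_r115) chk9_r116) chk9_r117) chk9_r118) chk9_r119) chk9_r120) chk9_r121) chk9_r122) chk9_r123) chk9_r124) chk9_r125) chk9_r126) chk9_r127) chk9_r128) chk9_r129) chk9_r130) chk9_r131) chk9_r132

theorem chk9 : id133.map (rowW mask133 m133 (chkW 9)) = id133 := by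
  rw [chk9_word]
  exact map_of_rows chk9_upTo133

end Cfsg.Agent.HNRec.Amalgam
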