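import Cfsg.Agent.HNRec.Amalgam.Check0
import Cfsg.Agent.HNRec.Amalgam.Check1
import Cfsg.Agent.HNRec.Amalgam.Check2
import Cfsg.Agent.HNRec.Amalgam.Check3
import Cfsg.Agent.HNRec.Amalgam.Check4
import Cfsg.Agent.HNRec.Amalgam.Check5
import Cfsg.Agent.HNRec.Amalgam.Check6
import Cfsg.Agent.HNRec.Amalgam.Check7
import Cfsg.Agent.HNRec.Amalgam.Check8
import Cfsg.Agent.HNRec.Amalgam.Check9

/-!
The words checked have trivial matrices.
-/

set_option autoImplicit false

namespace Cfsg.Agent.HNRec.Amalgam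

open Cfsg.Agent.HNSub

theorem chk_ok : ∀ i, i < 10 → id133.map (rowW mask133 m133 (chkW i)) = id133
  | 0, _ => chk0
  | 1, _ => chk1
  | 2, _ => chk2
  | 3, _ => chk3
  | 4, _ => chk4
  | 5, _ => chk5
  | 6, _ => chk6
  | 7, _ => chk7
  | 8, _ => chk8
  | 9, _ => chk9
  | i + 10, h => absurd h (by omega)

end Cfsg.Agent.HNRec.Amalgam
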