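/-! Generated (tools/hn/amalgam): the words of the amalgam of the centraliser and an involution
exchanging two involutions. Letters: x, X, y, Y, z, Z are numbered from zero to five. -/

namespace Cfsg.Agent.HNRec.Amalgam.Data

/-- Generators of the centraliser of `z` in the model. -/
def dGens : List (List Nat) := [
  [4],
  [0, 0],
  [0, 5, 0, 3, 2, 1, 1, 5],
  [0, 3, 1, 5, 0, 1, 0, 2, 5, 3, 1],
  [0, 3, 1, 1, 0, 1, 0, 2, 1, 3, 1],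
  [3, 1, 3, 4, 0, 4, 1, 0, 3, 1, 3, 1]]

/-- Their images under conjugation by the involution. -/
def dImgs : List (List Nat) := [
  [0, 0],
  [4],
  [4],
  [0, 3, 1, 5, 0, 1, 0, 2, 5, 3, 1],
  [4, 0, 0, 0, 3, 1, 1, 0, 1, 0, 2, 1, 3, 1],
  [0, 3, 1, 5, 0, 1, 0, 2, 5, 3, 1, 0, 3, 1, 5, 0, 1, 0, 2, 5, 3, 1, 0, 3, 1, 5, 0, 1, 0, 2, 5, 3, 1, 3, 1, 3, 4, 0, 4, 1, 0, 3, 1, 3, 1, 0, 3, 1, 5, 0, 1, 0, 2, 5, 3, 1]]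

/-- The middle and final words of the two relations. -/
def tri : List (List Nat × List Nat × List Nat) := [
  ([0], [1], [4, 0]),
  ([0, 2, 0, 4, 3], [2, 5, 1, 3, 1], [4, 3, 1, 3, 4, 0, 4, 1, 0, 3, 1, 3, 1, 0, 3, 1, 1, 0, 1, 0, 2, 1, 3, 1, 0, 3, 1, 1, 0, 1, 0, 2, 1, 3, 1, 0, 3, 1, 1, 0, 1, 0, 2, 1, 3, 1, 0, 3, 1, 1, 0, 1, 0, 2, 1, 3, 1, 0, 3, 1, 1, 0, 1, 0, 2, 1, 3, 1, 3, 1, 3, 4, 0, 4, 1, 0, 3, 1, 3, 1, 0, 3, 1, 1, 0, 1, 0, 2, 1, 3, 1, 3, 1, 3, 4, 0, 4, 1, 0, 3, 1, 3, 1, 0, 2, 0, 4, 3])]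

end Cfsg.Agent.HNRec.Amalgam.Data
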