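import Cfsg.Agent.HNRec.Amalgam.Sound
import Cfsg.Agent.HNRec.Amalgam.Checks
import Cfsg.Agent.HNOrder.Card
import Cfsg.Agent.HNOrder.Glue
import Cfsg.Agent.S1701
import Cfsg.Agent.HNSub.Rep

/-!
A group with the relations of the amalgam is an image of the Harada–Norton group.
-/

set_option autoImplicit false
set_option maxRecDepth 100000

namespace Cfsg.Agent.HNRec.Amalgam

open HNOrder HNSub Cfsg.Spor

/-- A letter of the presented group from its number. -/
def letter (x : Nat) : HN.Gen × Bool :=
  ([HN.Gen.x, HN.Gen.y, HN.Gen.z, HN.Gen.t].getD (x % 4) HN.Gen.x, Nat.blt x 4)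

/-- A checked word has the given product of matrices. -/
theorem part_spec {G : Nat → List Blk} (hG : ∀ x, Good 133 (rowsOf 133 (G x))) {w : List Nat}
    (h : id133.map (rowW mask133 G w) = id133) :
    (w.map fun x => toMat 133 (rowsOf 133 (G x))).prod = 1 := by
  have h1 := rowW_spec (n := 133) (by norm_num) G hG w id133 good_id133
  rw [← mask133_eq, h, toMat_id133, one_mul] at h1
  exact h1.symm

/-- The value of a word in letters of the presented group. -/
def ev (w : List Nat) : PresentedGroup hnRels :=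
  PresentedGroup.mk hnRels (FreeGroup.mk (w.map letter))

theorem ev_append (a b : List Nat) : ev (a ++ b) = ev a * ev b := by
  rw [ev, ev, ev, List.map_append, ← FreeGroup.mul_mk, map_mul]

theorem letter_flip : ∀ a < 8, letter ((a + 4) % 8) = ((letter a).1, !(letter a).2) := by
  decide +kernel

theorem ev_negW {w : List Nat} (h : ∀ a ∈ w, a < 8) : ev (negW w) = (ev w)⁻¹ := by
  rw [ev, ev, ← map_inv, FreeGroup.inv_mk, negW]
  congr 2
  rw [FreeGroup.invRev, List.map_map, List.map_map, ← List.map_reverse]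
  exact List.map_congr_left fun a ha => letter_flip a (h a (List.mem_reverse.1 ha))

/-- The inclusion of the model. -/
theorem exists_inc : ∃ E : HGroup →* PresentedGroup hnRels,
    ∀ b, E (PresentedGroup.of b) = PresentedGroup.of (gGen (Fin.castSucc b)) := by
  obtain ⟨e, he⟩ := exists_iso
  obtain ⟨ι, hι⟩ := exists_ginc
  refine ⟨e.toMonoidHom.comp ι, fun b => ?_⟩
  rw [← he]
  exact congrArg e (hι [(b, true)])

/-- The inclusion of the model. -/
noncomputable def inc : HGroup →* PresentedGroup hnRels := exists_inc.choose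

theorem inc_wd (l : List (Fin 3 × Bool)) : inc (wd HRels l) =
    PresentedGroup.mk hnRels (FreeGroup.mk (l.map fun a => (gGen (Fin.castSucc a.1), a.2))) := by
  have e : inc.comp (PresentedGroup.mk (CosetCert.wordRels HRels)) =
      (PresentedGroup.mk hnRels).comp (FreeGroup.map fun b : Fin 3 => gGen (Fin.castSucc b)) :=
    FreeGroup.ext_hom _ _ fun b => by
      rw [MonoidHom.comp_apply, MonoidHom.comp_apply, FreeGroup.map.of]
      exact exists_inc.choose_spec b
  have := DFunLike.congr_fun e (FreeGroup.mk l)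
  rwa [MonoidHom.comp_apply, MonoidHom.comp_apply, FreeGroup.map.mk] at this

theorem inc_hw {l : List Nat}
    (h : (lw l).map (fun a => (gGen (Fin.castSucc a.1), a.2)) = (cw l).map letter) :
    inc (hw l) = ev (cw l) := by
  rw [hw, inc_wd, h]; rfl

theorem letters_ok : (∀ i < 6,
    ((lw (Data.dGens.getD i [])).map (fun a => (gGen (Fin.castSucc a.1), a.2)) =
      (cw (Data.dGens.getD i [])).map letter) ∧
    ((lw (Data.dImgs.getD i [])).map (fun a => (gGen (Fin.castSucc a.1), a.2)) =
      (cw (Data.dImgs.getD i [])).map letter)) ∧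
    ∀ r < 2,
    ((lw (Data.tri.getD r ([], [], [])).1).map (fun a => (gGen (Fin.castSucc a.1), a.2)) =
      (cw (Data.tri.getD r ([], [], [])).1).map letter) ∧
    ((lw (Data.tri.getD r ([], [], [])).2.1).map (fun a => (gGen (Fin.castSucc a.1), a.2)) =
      (cw (Data.tri.getD r ([], [], [])).2.1).map letter) ∧
    ((lw (Data.tri.getD r ([], [], [])).2.2).map (fun a => (gGen (Fin.castSucc a.1), a.2)) =
      (cw (Data.tri.getD r ([], [], [])).2.2).map letter) := by
  decide +kernel

theorem tail_lt : (∀ i < 6, ∀ a ∈ cw (Data.dImgs.getD i []), a < 8) ∧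
    (∀ r < 2, ∀ a ∈ cw (Data.tri.getD r ([], [], [])).2.2, a < 8) := by decide +kernel

theorem codes_ok : ∀ i < 10, ((chkW i).map letter).map lcode = chkW i := by decide +kernel

theorem isHN_hn : Cfsg.IsHN Spor.HN := Cfsg.Agent.S1701.result

theorem rep_x_sq_ne : hnRep (PresentedGroup.of HN.Gen.x) * hnRep (PresentedGroup.of HN.Gen.x) ≠ 1 := by
  intro h
  rw [hnRep, PresentedGroup.toGroup.of] at h
  have h2 := unit_sq h
  rw [unit133_val, unit133_inv] at h2
  obtain ⟨j, hj, hne⟩ := List.any_eq_true.1 xx_witness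
  have hj' := List.mem_range.1 hj
  have e : M133 (gnum HN.Gen.x) ⟨77, by norm_num⟩ ⟨j, hj'⟩ =
      M133 (gnum HN.Gen.x + 4) ⟨77, by norm_num⟩ ⟨j, hj'⟩ := by rw [h2]
  rw [show gnum HN.Gen.x = 0 from rfl, show (0 : Nat) + 4 = 4 from rfl] at e
  unfold M133 at e
  simp only [toMat, Matrix.of_apply, ZMod.natCast_eq_natCast_iff'] at e
  rw [e, Nat.beq_refl] at hne
  simp at hne

theorem ev_chkW {i : Nat} (hi : i < 10) : ev (chkW i) = 1 := by
  have hs : IsSimpleGroup (PresentedGroup hnRels) := isHN_hn.1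
  have hinj : Function.Injective hnRep := by
    rw [← MonoidHom.ker_eq_bot_iff]
    refine (hs.eq_bot_or_eq_top_of_normal hnRep.ker hnRep.normal_ker).resolve_right fun htop => ?_
    exact rep_x_sq_ne (by rw [MonoidHom.mem_ker.1 (htop ▸ Subgroup.mem_top (PresentedGroup.of HN.Gen.x)), one_mul])
  refine hinj ?_
  rw [map_one]
  refine Units.ext ?_
  show ((FreeGroup.lift unit133 (FreeGroup.mk ((chkW i).map letter)) :
    (Matrix (Fin 133) (Fin 133) (ZMod 41))ˣ) : Matrix (Fin 133) (Fin 133) (ZMod 41)) = 1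
  rw [coe_lift133, codes_ok i hi]
  exact part_spec good_m133 (chk_ok i hi)

/-- The involution in the presented group. -/
def sHN : PresentedGroup hnRels := ev sW

theorem rel_HN : Rel inc sHN := by
  have hk : ∀ a b : PresentedGroup hnRels, a * b⁻¹ = 1 → a = b := fun a b h => mul_inv_eq_one.1 h
  refine ⟨?_, fun i hi => ?_, fun r hr => ?_⟩
  · have h := ev_chkW (i := 0) (by norm_num)
    rw [show chkW 0 = sW ++ sW from rfl, ev_append] at h
    exact h
  · have h := ev_chkW (i := 1 + i) (by omega)
    rw [chkW_rot i hi, rotW, ev_append, ev_append, ev_append, ev_negW (tail_lt.1 i hi)] at h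
    rw [inc_hw (letters_ok.1 i hi).1, inc_hw (letters_ok.1 i hi).2]
    exact hk _ _ (by simpa only [sHN, mul_assoc] using h)
  · have h := ev_chkW (i := 7 + r) (by omega)
    rw [chkW_tri r hr, triW, ev_append, ev_append, ev_append, ev_append, ev_append,
      ev_negW (tail_lt.2 r hr)] at h
    obtain ⟨l1, l2, l3⟩ := letters_ok.2 r hr
    rw [inc_hw l1, inc_hw l2, inc_hw l3]
    exact hk _ _ (by simpa only [sHN, mul_assoc] using h)

theorem tau_letters : (((lw tauA).map (fun a => (gGen (Fin.castSucc a.1), a.2)) =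
      (cw tauA).map letter) ∧
    ((lw tauB).map (fun a => (gGen (Fin.castSucc a.1), a.2)) = (cw tauB).map letter) ∧
    ((lw tauC).map (fun a => (gGen (Fin.castSucc a.1), a.2)) = (cw tauC).map letter) ∧
    ((lw tauD).map (fun a => (gGen (Fin.castSucc a.1), a.2)) = (cw tauD).map letter)) ∧
    [3].map letter = [(HN.Gen.t, true)] := by decide +kernel

/-- The model and the involution generate. -/
theorem generated : Subgroup.closure (Set.range inc ∪ {sHN}) = ⊤ := by
  rw [eq_top_iff, ← PresentedGroup.closure_range_of hnRels, Subgroup.closure_le]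
  have hinc : ∀ g, inc g ∈ Subgroup.closure (Set.range inc ∪ {sHN}) := fun g =>
    Subgroup.subset_closure (Or.inl ⟨g, rfl⟩)
  have hs : sHN ∈ Subgroup.closure (Set.range inc ∪ {sHN}) := Subgroup.subset_closure (Or.inr rfl)
  have hb : ∀ b : Fin 3, (PresentedGroup.of (gGen (Fin.castSucc b)) : PresentedGroup hnRels) ∈
      Subgroup.closure (Set.range inc ∪ {sHN}) := fun b => exists_inc.choose_spec b ▸ hinc _
  have ht : (PresentedGroup.of HN.Gen.t : PresentedGroup hnRels) ∈
      Subgroup.closure (Set.range inc ∪ {sHN}) := by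
    have h := ev_chkW (i := 9) (by norm_num)
    rw [chkW_tau, ev_append, ev_append, ev_append, ev_append, ev_append, ev_append, ev_append,
      ev_negW (by decide)] at h
    obtain ⟨⟨a1, a2, a3, a4⟩, ht1⟩ := tau_letters
    rw [← inc_hw a1, ← inc_hw a2, ← inc_hw a3, ← inc_hw a4] at h
    have e : ev [3] = PresentedGroup.of HN.Gen.t := by rw [ev, ht1]; rfl
    simp only [← mul_assoc] at h
    rw [mul_inv_eq_one, e] at h
    rw [← h]
    exact mul_mem (mul_mem (mul_mem (mul_mem (mul_mem (mul_mem (hinc _) hs) (hinc _)) hs) (hinc _)) hs)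
      (hinc _)
  rintro _ ⟨g, rfl⟩
  cases g
  · exact hb 0
  · exact hb 1
  · exact hb 2
  · exact ht

variable {X : Type*} [Group X] {Φ : HGroup →* X} {s : X}

/-- A group with the relations is an image of the Harada–Norton group, with the same model and
involution; it is a copy when the square of `x` survives. -/
theorem Rel.exists_iso (h : Rel Φ s) : ∃ θ : Spor.HN →* X,
    (∀ q : HGroup, θ (inc q) = Φ q) ∧ θ sHN = s ∧
      θ.range = Subgroup.closure (Set.range Φ ∪ {s}) ∧
      (θ (PresentedGroup.of HN.Gen.x) = Φ (PresentedGroup.of 0) ∧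
        θ (PresentedGroup.of HN.Gen.y) = Φ (PresentedGroup.of 1) ∧
        θ (PresentedGroup.of HN.Gen.z) = Φ (PresentedGroup.of 2)) ∧
      (Φ (PresentedGroup.of 0 * PresentedGroup.of 0) ≠ 1 → Function.Injective θ) := by
  let Ψ : HGroup →* X × PresentedGroup hnRels := Φ.prod inc
  let Δ : Subgroup (X × PresentedGroup hnRels) := Subgroup.closure (Set.range Ψ ∪ {(s, sHN)})
  have hΨ : ∀ q, Ψ q ∈ Δ := fun q => Subgroup.subset_closure (Or.inl ⟨q, rfl⟩)
  let Ψ' : HGroup →* Δ := Ψ.codRestrict Δ hΨ
  let s' : Δ := ⟨(s, sHN), Subgroup.subset_closure (Or.inr rfl)⟩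
  have hR := rel_HN
  have hrel : Rel Ψ' s' :=
    ⟨Subtype.ext (Prod.ext h.sq hR.sq), fun i hi => Subtype.ext (Prod.ext (h.rot i hi) (hR.rot i hi)),
      fun r hr => Subtype.ext (Prod.ext (h.rel r hr) (hR.rel r hr))⟩
  have hgen : Subgroup.closure (Set.range Ψ' ∪ {s'}) = ⊤ := by
    apply Subgroup.map_injective Δ.subtype_injective
    rw [MonoidHom.map_closure, ← MonoidHom.range_eq_map, Subgroup.range_subtype, Set.image_union,
      Set.image_singleton, ← Set.range_comp]
    rfl
  obtain ⟨hfin, hle⟩ := hrel.card_le hgen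
  let π₂ : Δ →* PresentedGroup hnRels := (MonoidHom.snd X (PresentedGroup hnRels)).comp Δ.subtype
  have h2s : Function.Surjective π₂ := by
    rw [← MonoidHom.range_eq_top, eq_top_iff, ← generated, Subgroup.closure_le]
    rintro x (⟨c, rfl⟩ | rfl)
    · exact ⟨Ψ' c, rfl⟩
    · exact ⟨s', rfl⟩
  have hb : Function.Bijective π₂ := by
    refine (Nat.bijective_iff_surjective_and_card _).mpr ⟨h2s, ?_⟩
    have h3 := Nat.card_le_card_of_surjective _ h2s
    have h4 : Nat.card (PresentedGroup hnRels) = 273030912000000 := hn_facts.2.1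
    omega
  let e : Δ ≃* PresentedGroup hnRels := MulEquiv.ofBijective π₂ hb
  let θ : PresentedGroup hnRels →* X :=
    ((MonoidHom.fst X (PresentedGroup hnRels)).comp Δ.subtype).comp e.symm.toMonoidHom
  have hc : ∀ q, θ (inc q) = Φ q := fun q => by
    show (e.symm (inc q)).1.1 = _
    rw [show e.symm (inc q) = Ψ' q from e.symm_apply_eq.mpr rfl]
    rfl
  have hs : θ sHN = s := by
    show (e.symm sHN).1.1 = _
    rw [show e.symm sHN = s' from e.symm_apply_eq.mpr rfl]
  have hrange : θ.range = Subgroup.closure (Set.range Φ ∪ {s}) := by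
    rw [MonoidHom.range_eq_map, ← generated, MonoidHom.map_closure]
    congr 1
    rw [Set.image_union, Set.image_singleton, hs, ← Set.range_comp]
    congr 1
    ext g
    simp [hc]
  have hof : ∀ b : Fin 3, θ (PresentedGroup.of (gGen (Fin.castSucc b))) = Φ (PresentedGroup.of b) :=
    fun b => by rw [← exists_inc.choose_spec b]; exact hc _
  refine ⟨θ, hc, hs, hrange, ⟨hof 0, hof 1, hof 2⟩, fun hne => ?_⟩
  have hsimp : IsSimpleGroup (PresentedGroup hnRels) := isHN_hn.1
  refine (MonoidHom.ker_eq_bot_iff θ).mp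
    ((hsimp.eq_bot_or_eq_top_of_normal θ.ker θ.normal_ker).resolve_right fun htop => hne ?_)
  rw [← hc]
  exact MonoidHom.mem_ker.mp (htop ▸ Subgroup.mem_top _)

end Cfsg.Agent.HNRec.Amalgam
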