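import Cfsg.Agent.HNOrder.HUpper
import Cfsg.Agent.HNRec.Amalgam.Data

/-!
The relations between an image of `⟨x, y, z⟩` and an involution exchanging `x ^ 2` and `z`.
-/

set_option autoImplicit false

namespace Cfsg.Agent.HNRec.Amalgam

open HNOrder

/-- The signed letters of numbered letters. -/
def lw (l : List Nat) : List (Fin 3 × Bool) := l.map fun a => (Fin.ofNat 3 (a / 2), Nat.beq (a % 2) 0)

/-- The element of the model of a word in numbered letters. -/
def hw (l : List Nat) : HGroup := wd HRels (lw l)

/-- The relations of the amalgam. -/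
structure Rel {X : Type*} [Group X] (Φ : HGroup →* X) (s : X) : Prop where
  /-- `s` is an involution or trivial. -/
  sq : s * s = 1
  /-- The action of `s` on the centraliser of the pair. -/
  rot : ∀ i < 6, s * Φ (hw (Data.dGens.getD i [])) * s = Φ (hw (Data.dImgs.getD i []))
  /-- The two further relations. -/
  rel : ∀ r < 2, s * Φ (hw (Data.tri.getD r ([], [], [])).1) * s *
    Φ (hw (Data.tri.getD r ([], [], [])).2.1) * s = Φ (hw (Data.tri.getD r ([], [], [])).2.2)

end Cfsg.Agent.HNRec.Amalgam
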