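import Cfsg.Agent.HNRec.Amalgam.Rel
import Cfsg.Agent.HNRec.Amalgam.Enum.Cert
import Cfsg.Agent.HNOrder.Upper

/-!
A group generated by an image of the model and an involution with the relations has at most the order of
the Harada–Norton group.
-/

set_option autoImplicit false
set_option maxRecDepth 100000

namespace Cfsg.Agent.HNRec.Amalgam

open HNOrder Cfsg.Agent.DCoset Cfsg.Agent.CosetCert

/-- The signed word of the `k`-th rule, left side. -/
def ruleU (k : Nat) : List (Fin 3 × Bool) :=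
  if k < 6 then lw (Data.dGens.getD k []) else FreeGroup.invRev (lw (Data.dGens.getD (k - 4) []))

/-- The signed word of the `k`-th rule, right side. -/
def ruleV (k : Nat) : List (Fin 3 × Bool) :=
  if k < 6 then lw (Data.dImgs.getD k []) else FreeGroup.invRev (lw (Data.dImgs.getD (k - 4) []))

theorem base_rules : Enum.rules.nT = 2 ∧ Enum.rules.nRule = 25 ∧ Enum.rules.nRel = 2 ∧
    Enum.rules.invT 0 = 0 ∧ Enum.rules.invT 1 = 1 ∧ Enum.rules.mulT 0 0 = 1 ∧ Enum.rules.mulT 0 1 = 2 ∧
    Enum.rules.mulT 1 0 = 2 ∧ Enum.rules.mulT 1 1 = 1 := by decide +kernel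

theorem rule_low : ∀ r, r < 25 → (r < 6 ∨ 16 ≤ r) → Enum.rules.rS r = 0 ∧ Enum.rules.rD r = 0 ∧
    Enum.rules.rU r = Enum.rules.rV r ∧ HN.tab.okWord (Enum.rules.rU r) = true := by decide +kernel

theorem rule_high : ∀ k, k < 10 → Enum.rules.rS (6 + k) = 1 ∧ Enum.rules.rD (6 + k) = 1 ∧
    HN.tab.okWord (Enum.rules.rU (6 + k)) = true ∧ HN.tab.okWord (Enum.rules.rV (6 + k)) = true ∧
    unpack 2 (Enum.rules.rU (6 + k)) = ruleU k ∧ unpack 2 (Enum.rules.rV (6 + k)) = ruleV k := by
  decide +kernel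

theorem rel_data : ∀ r, r < 2 → Enum.rules.relHd r = 1 ∧ Enum.rules.relLen r = 2 ∧
    HN.tab.okWord (Enum.rules.relTl r) = true ∧
    (∀ m, m < 2 → Enum.rules.relT r m = 1 ∧ HN.tab.okWord (Enum.rules.relW r m) = true) ∧
    unpack 2 (Enum.rules.relW r 0) = lw (Data.tri.getD r ([], [], [])).1 ∧
    unpack 2 (Enum.rules.relW r 1) = lw (Data.tri.getD r ([], [], [])).2.1 ∧
    unpack 2 (Enum.rules.relTl r) = lw (Data.tri.getD r ([], [], [])).2.2 := by decide +kernel

variable {X : Type*} [Group X] {Φ : HGroup →* X} {s : X}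

/-- The two extra letters. -/
def tLet (s : X) (τ : Nat) : X := if τ = 1 then s else 1

theorem sound (h : Rel Φ s) (P : QModel HGroup) (hP : P.toTab = HN.tab) (hq : P.q = letterEl HRels) :
    Enum.rules.Sound (P.toModel Φ) (tLet s) := by
  have hv : ∀ w, val (P.toModel Φ).lv w = Φ (wd HRels (unpack 2 w)) := fun w => by
    rw [P.el_val, QModel.el, hq, val_letterEl]
  have hok : ∀ w, HN.tab.okWord w = true → (P.toModel Φ).toTab.okWord w = true := fun w hw => by
    show P.toTab.okWord w = true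
    rw [hP]; exact hw
  obtain ⟨h2, hn, hr2, i0, i1, m00, m01, m10, m11⟩ := base_rules
  constructor
  · rfl
  · intro τ hτ
    rw [h2] at hτ ⊢
    interval_cases τ
    · rw [i0]; exact ⟨by norm_num, by simp [tLet]⟩
    · rw [i1]; exact ⟨by norm_num, h.sq⟩
  · intro σ τ hσ hτ hne
    rw [h2] at hσ hτ ⊢
    interval_cases σ <;> interval_cases τ
    · rw [m00]; exact ⟨by norm_num, by simp [tLet]⟩
    · rw [m01]; exact ⟨by norm_num, by simp [tLet]⟩
    · rw [m10]; exact ⟨by norm_num, by simp [tLet]⟩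
    · rw [m11]; exact ⟨by norm_num, h.sq⟩
  · intro r hr
    rw [hn] at hr
    rw [h2, hv, hv]
    rcases (by omega : (r < 6 ∨ 16 ≤ r) ∨ (6 ≤ r ∧ r < 16)) with hlt | ⟨hge, hr16⟩
    · obtain ⟨hS, hD, hUV, ho⟩ := rule_low r hr hlt
      rw [hS, hD, ← hUV]
      exact ⟨by norm_num, by norm_num, hok _ ho, hok _ ho, by simp [tLet]⟩
    · obtain ⟨k, rfl⟩ := Nat.exists_eq_add_of_le hge
      obtain ⟨hS, hD, hu, hvv, eU, eV⟩ := rule_high k (by omega)
      rw [hS, hD, eU, eV]
      refine ⟨by norm_num, by norm_num, hok _ hu, hok _ hvv, ?_⟩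
      have hsi : s⁻¹ = s := inv_eq_of_mul_eq_one_right h.sq
      show s * Φ (wd HRels (ruleV k)) = Φ (wd HRels (ruleU k)) * s
      unfold ruleU ruleV
      split_ifs with hk
      · show s * Φ (hw _) = Φ (hw _) * s
        rw [← h.rot k hk, ← mul_assoc, ← mul_assoc, h.sq, one_mul]
      · rw [wd_invRev, wd_invRev, map_inv, map_inv]
        show s * (Φ (hw _))⁻¹ = (Φ (hw _))⁻¹ * s
        rw [← h.rot (k - 4) (by omega), mul_inv_rev, mul_inv_rev, hsi, ← mul_assoc, ← mul_assoc, h.sq, one_mul]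
  · intro r hr
    rw [hr2] at hr
    obtain ⟨hhd, hlen, hot, hm, e0, e1, e2⟩ := rel_data r hr
    rw [hhd, h2, hlen]
    refine ⟨by norm_num, hok _ hot, fun m hm' => ⟨by rw [(hm m hm').1]; norm_num, hok _ (hm m hm').2⟩, ?_⟩
    simp only [List.range_succ, List.range_zero, List.map_append, List.map_cons, List.map_nil,
      List.nil_append, List.cons_append, List.prod_cons, List.prod_nil, mul_one, hv,
      (hm 0 (by norm_num)).1, (hm 1 (by norm_num)).1, e0, e1, e2]
    have := h.rel r hr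
    simp only [tLet, if_true]
    simpa only [hw, mul_assoc] using this

/-- The bound on a generated group. -/
theorem Rel.card_le (h : Rel Φ s) (hgen : Subgroup.closure (Set.range Φ ∪ {s}) = ⊤) :
    Finite X ∧ Nat.card X ≤ 273030912000000 := by
  obtain ⟨P, hP, hq⟩ := exists_hmodel
  have hfinH := hgroup_card.1
  have hgenG : Subgroup.closure (Set.range Φ ∪ {x | ∃ t, t < Enum.rules.nT ∧ x = tLet s t}) = ⊤ := by
    rw [eq_top_iff, ← hgen]
    refine Subgroup.closure_mono (Set.union_subset_union_right _ ?_)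
    rintro x rfl
    exact ⟨1, by rw [base_rules.1]; norm_num, rfl⟩
  have hS := sound h P hP hq
  have hF := Steps.holds (D := Enum.steps) (Hs := Φ.range) hS
    (fun g _ => ⟨P.q g, rfl⟩) Enum.node_src (by rw [base_rules.1]; norm_num)
    (fun i hi => by
      show Steps.check _ _ P.toTab i = true
      rw [hP]; exact Enum.steps_ok i hi)
  obtain ⟨hne, hle⟩ := Cover.index_le Φ (tLet s) hgroup_card.2 (gen_model P hP hq) hgenG hS
    (by rw [hP]; exact Enum.valid) hF
  rw [Enum.idx_sum] at hle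
  have : Finite Φ.range := Finite.of_surjective _ Φ.rangeRestrict_surjective
  have hR : Nat.card Φ.range ≤ 177408000 :=
    (Nat.card_le_card_of_surjective _ Φ.rangeRestrict_surjective).trans hgroup_card.2
  have hmul := Φ.range.card_mul_index
  refine ⟨(Nat.card_ne_zero.1 ?_).2, ?_⟩
  · rw [← hmul]; exact Nat.mul_ne_zero Nat.card_pos.ne' hne
  · rw [← hmul]
    calc Nat.card Φ.range * Φ.range.index ≤ 177408000 * 1539000 := Nat.mul_le_mul hR hle
      _ = 273030912000000 := by norm_num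

end Cfsg.Agent.HNRec.Amalgam
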