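import Cfsg.Agent.HNRec.Amalgam.Data
import Cfsg.Agent.HNSub.Maps

/-!
The words in the presented Harada–Norton group whose matrices are checked to be trivial.
-/

set_option autoImplicit false

namespace Cfsg.Agent.HNRec.Amalgam

/-- A numbered letter of the model as a letter of the presented group. -/
def code (a : Nat) : Nat := a / 2 + 4 * (a % 2)

/-- The inverse word, in letters of the presented group. -/
def negW (w : List Nat) : List Nat := w.reverse.map fun a => (a + 4) % 8

/-- The involution. -/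
def sW : List Nat := [3, 3, 3, 2, 3, 0, 2]

/-- A model word in letters of the presented group. -/
def cw (l : List Nat) : List Nat := l.map code

/-- The relation words. -/
def rotW (i : Nat) : List Nat :=
  sW ++ (cw (Data.dGens.getD i []) ++ (sW ++ negW (cw (Data.dImgs.getD i []))))

/-- The words of the further relations. -/
def triW (r : Nat) : List Nat :=
  sW ++ (cw (Data.tri.getD r ([], [], [])).1 ++ (sW ++ (cw (Data.tri.getD r ([], [], [])).2.1 ++
    (sW ++ negW (cw (Data.tri.getD r ([], [], [])).2.2)))))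

/-- A part of the word for the fourth generator. -/
def tauA : List Nat := [0, 3, 1, 5, 0, 1, 0, 2, 5, 3, 1, 3, 1, 3, 4, 0, 4, 1, 0, 3, 1, 3, 1, 0, 3, 1, 1, 0, 1, 0, 2, 1, 3, 1, 0, 3, 1, 1, 0, 1, 0, 2, 1, 3, 1, 0, 3, 1, 5, 0, 1, 0, 2, 5, 3, 1, 3, 1, 3, 4, 0, 4, 1, 0, 3, 1, 3, 1, 0, 3, 1, 5, 0, 1, 0, 2, 5, 3, 1, 0, 3, 1, 1, 0, 1, 0, 2, 1, 3, 1, 0, 3, 1, 1, 0, 1, 0, 2, 1, 3, 1, 0, 3, 1, 5, 0, 1, 0, 2, 5, 3, 1, 0, 2, 2, 2, 0, 3, 4, 3, 3]

/-- A part of the word for the fourth generator. -/
def tauB : List Nat := [0, 2, 2, 4]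

/-- A part of the word for the fourth generator. -/
def tauC : List Nat := [0, 3, 3, 4]

/-- A part of the word for the fourth generator. -/
def tauD : List Nat := [2, 1, 2, 1, 3, 3, 5, 3, 3]

/-- The words checked. -/
def chkW (i : Nat) : List Nat :=
  if i = 0 then sW ++ sW else if i < 7 then rotW (i - 1) else if i < 9 then triW (i - 7) else
    cw tauA ++ (sW ++ (cw tauB ++ (sW ++ (cw tauC ++ (sW ++ (cw tauD ++ negW [3]))))))

theorem chkW_zero : chkW 0 = sW ++ sW := rfl

theorem chkW_rot (i : Nat) (h : i < 6) : chkW (1 + i) = rotW i := by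
  rw [chkW, if_neg (by omega), if_pos (by omega), Nat.add_sub_cancel_left]

theorem chkW_tri (r : Nat) (h : r < 2) : chkW (7 + r) = triW r := by
  rw [chkW, if_neg (by omega), if_neg (by omega), if_pos (by omega), Nat.add_sub_cancel_left]

theorem chkW_tau : chkW 9 =
    cw tauA ++ (sW ++ (cw tauB ++ (sW ++ (cw tauC ++ (sW ++ (cw tauD ++ negW [3])))))) := rfl

open Cfsg.Agent.HNSub

/-- The product over a word fixes the `j`-th row of the identity. -/
noncomputable def rowB (w : List Nat) (j : Nat) : Bool :=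
  Nat.beq (rowW mask133 m133 w (id133.getD j 0)) (id133.getD j 0)

theorem rows_zero {P : Nat → Prop} : ∀ j, j < 0 → P j := fun _ h => absurd h (Nat.not_lt_zero _)

theorem rows_step {P : Nat → Prop} {n : Nat} (h : ∀ j, j < n → P j) (hn : P n) :
    ∀ j, j < n + 1 → P j :=
  fun j hj => (Nat.lt_succ_iff_lt_or_eq.1 hj).elim (h j) fun e => e ▸ hn

theorem map_of_rows {w : List Nat} (h : ∀ j, j < 133 → rowB w j = true) :
    id133.map (rowW mask133 m133 w) = id133 := by
  have hl : id133.length = 133 := by decide +kernel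
  refine List.ext_getElem (by rw [List.length_map]) fun j h1 h2 => ?_
  have := Nat.eq_of_beq_eq_true (h j (by omega))
  rw [List.getD_eq_getElem _ _ h2] at this
  rw [List.getElem_map]
  exact this

end Cfsg.Agent.HNRec.Amalgam
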